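import Cfsg.Agent.H536.T5.DataB

/-!
# The Harada–Norton group: pairs of conjugate elements of order 5, checked in the 133-dimensional representation (helper536)
-/

set_option autoImplicit false
set_option maxRecDepth 100000

namespace Cfsg.Agent.H536.T5

open Cfsg.Agent.HN.XWords (V)

namespace DataC

open Cfsg.Agent.Lib.PackMat Cfsg.Agent.Lib.PackMatGroup Cfsg.Agent.Lib.PackMatMul Cfsg.Agent.HN.RepData
open Cfsg.Agent.HN.Rep (L LG gens rho)
open Cfsg.Agent.HN Cfsg.Agent.H536.T5.Prog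

/-- the straight line program -/
def prog : List (ℕ × List ℕ) := [
  (4, [4]),
  (5, [3, 5, 3, 3, 1, 3, 1, 3, 3, 5, 4, 2, 4, 4, 5]),
  (6, [5, 9, 5, 9, 5, 6, 8, 5, 5, 5, 6]),
  (1, [0, 1, 0, 6]),
  (4, [6, 8, 6, 4, 6, 6, 6, 5, 7, 7, 8, 6, 8, 4, 6, 8, 5]),
  (7, [7, 6, 7, 7, 5]),
  (6, [8, 6, 9, 9, 10, 8, 10, 6, 8]),
  (2, [9, 2, 10]),
  (0, [0, 0]),
  (0, [0]),
  (0, [0]),
  (5, [13, 5, 14]),
  (0, [0, 0]),
  (0, [0]),
  (0, [0]),
  (8, [15, 8, 16]),
  (0, [0, 0]),
  (0, [0]),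
  (0, [0]),
  (15, [19, 15, 20]),
  (0, [0, 0]),
  (0, [0]),
  (0, [0])]

/-- the equalities -/
def es : List (ℕ × ℕ) := [(12, 22), (8, 22), (4, 22), (0, 22)]

/-- the inequalities -/
def ns : List (ℕ × ℕ) := [(15, 22), (11, 22), (7, 22), (3, 22)]

/-- the steps after the first five -/
def P2 : List (ℕ × List ℕ) := [
  (7, [7, 6, 7, 7, 5]),
  (6, [8, 6, 9, 9, 10, 8, 10, 6, 8]),
  (2, [9, 2, 10]),
  (0, [0, 0]),
  (0, [0]),
  (0, [0]),
  (5, [13, 5, 14]),
  (0, [0, 0]),
  (0, [0]),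
  (0, [0]),
  (8, [15, 8, 16]),
  (0, [0, 0]),
  (0, [0]),
  (0, [0]),
  (15, [19, 15, 20]),
  (0, [0, 0]),
  (0, [0]),
  (0, [0])]

theorem chk2 : checkS C P2 es ns DataB.LB = true := by decide +kernel

theorem prog_eq : prog = DataB.P1 ++ P2 := by decide

theorem sound : (∀ q ∈ es, (runG prog LG).getD q.1 1 = (runG prog LG).getD q.2 1) ∧
    (∀ q ∈ ns, (runG prog LG).getD q.1 1 ≠ (runG prog LG).getD q.2 1) := by
  rw [prog_eq, Cut.runG_append]
  exact checkS_sound (good_of_check Rep.good) DataB.base chk2 (by decide)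

/-- the results in the presented group -/
noncomputable def R (i : ℕ) : Cfsg.Spor.HN := (runG prog gens).getD i 1

theorem rho_R (i : ℕ) : rho (R i) = (runG prog LG).getD i 1 := by
  unfold R
  rw [← Rep.gens_map, runG_map, List.getD_eq_getElem?_getD, List.getD_eq_getElem?_getD, List.getElem?_map]
  cases (runG prog gens)[i]? with
  | none => simp
  | some b => simp

theorem mul_evG (g : Cfsg.Spor.HN) (w : List ℕ) :
    g * evG (runG prog gens) w = w.foldl (fun g j => g * R j) g := by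
  induction w generalizing g with
  | nil => rw [evG_nil, mul_one]; rfl
  | cons i w ih => rw [evG_cons, ← mul_assoc, ih]; rfl

/-- the steps -/
theorem st (k i : ℕ) (w : List ℕ) (hk : k < prog.length) (h : wordAt prog k = i :: w) :
    R k = w.foldl (fun g j => g * R j) (R i) := by
  rw [← mul_evG]
  exact runG_word prog gens hk h

/-- the words in the letters -/
theorem sw (k : ℕ) (w : List ℕ) (hk : k < prog.length) (h : wordAt prog k = w.map (· + 23)) : R k = V w := by
  have e : R k = evG (runG prog gens) (w.map (· + 23)) := runG_word prog gens hk h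
  rw [e, V]
  refine evG_shift (fun c => ?_) w
  rw [add_comm]
  exact runG_getD_add prog gens c

/-- the letters -/
theorem lt (k : ℕ) : R (23 + k) = gens.getD k 1 := runG_getD_add prog gens k


theorem eqn [IsSimpleGroup Cfsg.Spor.HN] (i j : ℕ) (h : (i, j) ∈ es) : R i = R j :=
  A12Group.rho_injective (by rw [rho_R, rho_R]; exact sound.1 (i, j) h)

theorem neq (i j : ℕ) (h : (i, j) ∈ ns) : R i ≠ R j := fun e =>
  sound.2 (i, j) h (by rw [← rho_R, ← rho_R, e])

theorem v_id : R 22 = V [4, 4] := sw 22 [4, 4] (by decide) (by decide)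
theorem v_G1 : R 21 = V g1w := sw 21 g1w (by decide) (by decide)
theorem v_G2 : R 20 = V g2w := sw 20 g2w (by decide) (by decide)
theorem v_w1 : R 18 = V zw := sw 18 zw (by decide) (by decide)
theorem v_w2 : R 17 = V w2w := sw 17 w2w (by decide) (by decide)
theorem v_w3 : R 16 = V w3w := sw 16 w3w (by decide) (by decide)
theorem s_a : R 19 = aa := by
  have e : R 19 = R 21 * R 20 * R 21 * R 20 * R 26 := st 19 21 [20, 21, 20, 26] (by decide) (by decide)
  have e3 : R 26 = V [3] := by rw [lt 3]; exact (mul_one _).symm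
  rw [e, v_G1, v_G2, e3]; rfl

theorem one : R 22 = 1 := by
  rw [v_id]
  change _ * (_ * 1) = 1
  rw [mul_one]; exact XWords.zz

theorem prd_w1_w1 [IsSimpleGroup Cfsg.Spor.HN] : Prd (V zw) (V zw) := by
  have e : R 15 = R 18 * R 25 * R 18 * R 26 := st 15 18 [25, 18, 26] (by decide) (by decide)
  have hg : R 25 * (R 26) = 1 := by rw [lt 2, lt 3]; exact mul_inv_cancel _
  have e2 : V zw * (R 25) * V zw * (R 26) = R 15 := by rw [← v_w1, e]
  refine ⟨R 25, R 26, hg, ?_, ?_⟩
  · rw [e2, ← one]; exact neq 15 22 (by decide)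
  · have h3 : R 14 = R 15 * R 15 * R 15 := st 14 15 [15, 15] (by decide) (by decide)
    have h6 : R 13 = R 14 * R 14 := st 13 14 [14] (by decide) (by decide)
    have h12 : R 12 = R 13 * R 13 := st 12 13 [13] (by decide) (by decide)
    rw [e2]; exact pow12 h3 h6 h12 (by rw [eqn 12 22 (by decide), one])
theorem prd_w2_w2 [IsSimpleGroup Cfsg.Spor.HN] : Prd (V w2w) (V w2w) := by
  have e : R 11 = R 17 * R 25 * R 17 * R 26 := st 11 17 [25, 17, 26] (by decide) (by decide)
  have hg : R 25 * (R 26) = 1 := by rw [lt 2, lt 3]; exact mul_inv_cancel _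
  have e2 : V w2w * (R 25) * V w2w * (R 26) = R 11 := by rw [← v_w2, e]
  refine ⟨R 25, R 26, hg, ?_, ?_⟩
  · rw [e2, ← one]; exact neq 11 22 (by decide)
  · have h3 : R 10 = R 11 * R 11 * R 11 := st 10 11 [11, 11] (by decide) (by decide)
    have h6 : R 9 = R 10 * R 10 := st 9 10 [10] (by decide) (by decide)
    have h12 : R 8 = R 9 * R 9 := st 8 9 [9] (by decide) (by decide)
    rw [e2]; exact pow12 h3 h6 h12 (by rw [eqn 8 22 (by decide), one])
theorem prd_w3_w3 [IsSimpleGroup Cfsg.Spor.HN] : Prd (V w3w) (V w3w) := by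
  have e : R 7 = R 16 * R 23 * R 16 * R 24 := st 7 16 [23, 16, 24] (by decide) (by decide)
  have hg : R 23 * (R 24) = 1 := by rw [lt 0, lt 1]; exact mul_inv_cancel _
  have e2 : V w3w * (R 23) * V w3w * (R 24) = R 7 := by rw [← v_w3, e]
  refine ⟨R 23, R 24, hg, ?_, ?_⟩
  · rw [e2, ← one]; exact neq 7 22 (by decide)
  · have h3 : R 6 = R 7 * R 7 * R 7 := st 6 7 [7, 7] (by decide) (by decide)
    have h6 : R 5 = R 6 * R 6 := st 5 6 [6] (by decide) (by decide)
    have h12 : R 4 = R 5 * R 5 := st 4 5 [5] (by decide) (by decide)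
    rw [e2]; exact pow12 h3 h6 h12 (by rw [eqn 4 22 (by decide), one])
theorem prd_a_a [IsSimpleGroup Cfsg.Spor.HN] : Prd (aa) (aa) := by
  have e : R 3 = R 19 * R 23 * R 19 * R 24 := st 3 19 [23, 19, 24] (by decide) (by decide)
  have hg : R 23 * (R 24) = 1 := by rw [lt 0, lt 1]; exact mul_inv_cancel _
  have e2 : aa * (R 23) * aa * (R 24) = R 3 := by rw [← s_a, e]
  refine ⟨R 23, R 24, hg, ?_, ?_⟩
  · rw [e2, ← one]; exact neq 3 22 (by decide)
  · have h3 : R 2 = R 3 * R 3 * R 3 := st 2 3 [3, 3] (by decide) (by decide)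
    have h6 : R 1 = R 2 * R 2 := st 1 2 [2] (by decide) (by decide)
    have h12 : R 0 = R 1 * R 1 := st 0 1 [1] (by decide) (by decide)
    rw [e2]; exact pow12 h3 h6 h12 (by rw [eqn 0 22 (by decide), one])

end DataC

end Cfsg.Agent.H536.T5
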