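import Cfsg.Agent.H536.T5.SpTools
import Cfsg.Agent.H536.T5.DataC
import Cfsg.Agent.H106.MBase

/-!
# The middle rows `(HN, 5)` and `(B, 5)` (helper536, for S2275)

`MPair 5 ⊤ x y` for all elements `x`, `y` of order 5 of `HN`: explicit products of order 12 or 8, no hypotheses.
-/

set_option autoImplicit false
set_option maxRecDepth 100000

namespace Cfsg.Agent.H536.T5

open Cfsg.Agent.HN.XWords (V)
open Subgroup Cfsg Cfsg.Agent.H533.T5 Cfsg.Agent.H957.T5M

universe u

section gen

variable {G : Type*} [Group G]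

theorem mpair_of_prd {x y : G} (h : Prd x y) : MPair 5 (⊤ : Subgroup G) x y := by
  obtain ⟨g, g', hg, h1, h24⟩ := h
  have hg' : g' = g⁻¹ := (inv_eq_of_mul_eq_one_right hg).symm
  subst hg'
  refine ⟨g, mem_top g, 1, 1, fun k hk => h1 ?_⟩
  have e : x ^ 1 * (g * y * g⁻¹) ^ 1 = x * g * y * g⁻¹ := by rw [pow_one, pow_one]; group
  rw [e] at hk
  have hcop : Nat.gcd 24 (5 ^ k) = 1 := Nat.Coprime.pow_right k (by norm_num)
  have h2 := orderOf_dvd_of_pow_eq_one h24
  have h3 := orderOf_dvd_of_pow_eq_one hk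
  have h4 := Nat.dvd_gcd h2 h3
  rw [hcop, Nat.dvd_one, orderOf_eq_one_iff] at h4
  exact h4

/-- the pairs from the representatives -/
theorem mpair_of_rep {x y r s : G} (h1 : RepOf x r) (h2 : RepOf y s) (h : MPair 5 (⊤ : Subgroup G) r s) :
    MPair 5 (⊤ : Subgroup G) x y := by
  obtain ⟨g, i, rfl⟩ := h1
  obtain ⟨k, j, rfl⟩ := h2
  exact MPair.of_pow i j (MPair.conj_left (mem_top g) (MPair.conj_right (mem_top k) h))

/-- pairs along an isomorphism -/
theorem mpair_equiv {G H : Type*} [Group G] [Group H] {p : ℕ} (e : G ≃* H) {x y : G}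
    (h : MPair p (⊤ : Subgroup H) (e x) (e y)) : MPair p (⊤ : Subgroup G) x y := by
  refine MPair.of_hom e.toMonoidHom ?_ h
  rw [← MonoidHom.range_eq_map, MonoidHom.range_eq_top.2 e.surjective]

/-- all pairs of a subgroup of index prime to `p` give all pairs of the group -/
theorem mpair_of_sylow [Finite G] {p : ℕ} [Fact p.Prime] {K : Subgroup G} (hK : ¬ p ∣ K.index)
    (h : ∀ x y : K, orderOf x = p → orderOf y = p → MPair p (⊤ : Subgroup K) x y) {x y : G}
    (hx : orderOf x = p) (hy : orderOf y = p) : MPair p (⊤ : Subgroup G) x y := by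
  obtain ⟨g, hg⟩ := exists_conj_mem_of_index hK hx
  obtain ⟨k, hk⟩ := exists_conj_mem_of_index hK hy
  have ho : ∀ (a z : G), orderOf (a * z * a⁻¹) = orderOf z := by
    intro a z
    have : a * z * a⁻¹ = MulAut.conj a z := by simp [MulAut.conj_apply]
    rw [this]
    exact orderOf_injective (MulAut.conj a).toMonoidHom (MulAut.conj a).injective z
  have h1 := h ⟨_, hg⟩ ⟨_, hk⟩ (by rw [← Subgroup.orderOf_coe]; simp only; rw [ho, hx])
    (by rw [← Subgroup.orderOf_coe]; simp only; rw [ho, hy])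
  have h2 := (h1.of_injective K.subtype K.subtype_injective).mono le_top
  exact MPair.conj_left (mem_top _) (MPair.conj_right (mem_top _) h2)

/-- a row from the pairs in a model, and the automorphisms of odd order -/
theorem mrow_of_model {K H : Type*} [Group K] [Finite K] [IsSimpleGroup K] [Group H] {p : ℕ} (hp : p.Prime) (hp2 : p ≠ 2)
    (hcard : ¬ (Nat.card K).Prime) (hinn : Cfsg.Agent.BpSpor.Inn.OddInn K) (e : K ≃* H)
    (h : ∀ x y : H, orderOf x = p → orderOf y = p → MPair p (⊤ : Subgroup H) x y) : MRow p K := by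
  refine MRow.of_inner (not_comm_of_card hcard) (fun a ha => ?_) (fun x y hx hy => mpair_equiv e (h _ _ ?_ ?_))
  · obtain ⟨g, rfl⟩ := hinn p hp hp2 a ha
    exact ⟨g, rfl⟩
  · rw [MulEquiv.orderOf_eq, hx]
  · rw [MulEquiv.orderOf_eq, hy]

end gen

/-- **all pairs of elements of order 5 of `HN`** -/
theorem mpair {x y : Spor.HN} (hx : orderOf x = 5) (hy : orderOf y = 5) : MPair 5 (⊤ : Subgroup Spor.HN) x y := by
  have := Cfsg.Agent.S1701.result.1
  obtain ⟨r, hr, hxr⟩ := exists_rep hx
  obtain ⟨s, hs, hys⟩ := exists_rep hy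
  refine mpair_of_rep hxr hys ?_
  rcases hr with rfl | rfl | rfl | rfl <;> rcases hs with rfl | rfl | rfl | rfl
  · exact mpair_of_prd DataC.prd_w1_w1
  · exact mpair_of_prd DataB.prd_w1_w2
  · exact mpair_of_prd DataB.prd_w1_w3
  · exact mpair_of_prd DataB.prd_w1_a
  · exact (mpair_of_prd DataB.prd_w1_w2).symm
  · exact mpair_of_prd DataC.prd_w2_w2
  · exact mpair_of_prd DataB.prd_w2_w3
  · exact mpair_of_prd DataB.prd_w2_a
  · exact (mpair_of_prd DataB.prd_w1_w3).symm
  · exact (mpair_of_prd DataB.prd_w2_w3).symm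
  · exact mpair_of_prd DataC.prd_w3_w3
  · exact mpair_of_prd DataB.prd_w3_a
  · exact (mpair_of_prd DataB.prd_w1_a).symm
  · exact (mpair_of_prd DataB.prd_w2_a).symm
  · exact (mpair_of_prd DataB.prd_w3_a).symm
  · exact mpair_of_prd DataC.prd_a_a

/-- **the middle row `(HN, 5)`** -/
theorem mrow_hn {K : Type u} [Group K] [Finite K] [IsSimpleGroup K] (h : Spor.IsoHN K) : MRow 5 K := by
  obtain ⟨e⟩ := h
  refine mrow_of_model (by norm_num) (by norm_num) ?_ (BpSpor.Inn.OddInn.congr e (BpSpor.Inn.of_index Cfsg.Agent.KFacts.HN.out_index)) e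
    fun x y hx hy => mpair hx hy
  rw [Nat.card_congr e.toEquiv, card_HN]
  norm_num

/-- the pairs of `B` from the subgroup `HN` of index prime to 5 -/
theorem mpairs_b {B : Type*} [Group B] (hB : Nat.card B = 4154781481226426191177580544000000) (f : Spor.HN →* B)
    (hf : Function.Injective f) {x y : B} (hx : orderOf x = 5) (hy : orderOf y = 5) : MPair 5 (⊤ : Subgroup B) x y := by
  have : Fact (Nat.Prime 5) := ⟨Nat.prime_five⟩
  have hfin : Finite B := Nat.finite_of_card_ne_zero (by rw [hB]; norm_num)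
  have h1 : Nat.card f.range = 273030912000000 := by
    rw [← card_HN]
    exact (Nat.card_congr (MonoidHom.ofInjective hf).toEquiv).symm
  have h2 := Subgroup.card_mul_index f.range
  rw [h1, hB] at h2
  have h3 : f.range.index = 15217256723027853312 := by omega
  let e : f.range ≃* Spor.HN := (MonoidHom.ofInjective hf).symm
  refine mpair_of_sylow (K := f.range) (by rw [h3]; norm_num) (fun a b ha hb => mpair_equiv e (mpair ?_ ?_)) hx hy
  · rw [MulEquiv.orderOf_eq, ha]
  · rw [MulEquiv.orderOf_eq, hb]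

/-- the middle row `(B, 5)` from the embedding -/
theorem mrow_b_of {K B : Type*} [Group K] [Finite K] [IsSimpleGroup K] [Group B] (e : K ≃* B)
    (hB : Nat.card B = 4154781481226426191177580544000000) (f : Spor.HN →* B) (hf : Function.Injective f)
    (hinn : Cfsg.Agent.BpSpor.Inn.OddInn K) : MRow 5 K := by
  refine mrow_of_model (by norm_num) (by norm_num) ?_ hinn e fun x y hx hy => mpairs_b hB f hf hx hy
  rw [Nat.card_congr e.toEquiv, hB]
  norm_num

end Cfsg.Agent.H536.T5
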