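import Cfsg.Agent.H536.T5.SpTools
import Cfsg.Agent.H536.T5.MRow
import Cfsg.Agent.H792.Sp.BFive
import Cfsg.Agent.BpSpor.Row.B

/-!
# The weak row and the middle row `(B, 5)` (helper536, task T5-SP4)

The rows `(HN, 5)` are `Cfsg.Agent.H536.T5.hn` of `SpTools` and `Cfsg.Agent.H536.T5.mrow_hn` of `MRow`.
-/

set_option autoImplicit false

namespace Cfsg.Agent.H536.T5

open Cfsg Cfsg.Agent.H533.T5

universe u

/-- **the row `(B, 5)`** -/
theorem b (K : Type u) [Group K] [Finite K] [IsSimpleGroup K] (h : Spor.IsoB K) : WRow 5 K := by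
  have hinn : Cfsg.Agent.BpSpor.Inn.OddInn K := Cfsg.Agent.BpSpor.Inn.b h
  obtain ⟨e⟩ := h
  obtain ⟨f, hf⟩ := Cfsg.Agent.H792.SpBFive.exists_hom
  exact row_b e Cfsg.Agent.BM.KHAll.card_B f hf hinn

/-- **the middle row `(B, 5)`** -/
theorem mrow_b {K : Type u} [Group K] [Finite K] [IsSimpleGroup K] (h : Spor.IsoB K) :
    Cfsg.Agent.H957.T5M.MRow 5 K := by
  have hinn : Cfsg.Agent.BpSpor.Inn.OddInn K := Cfsg.Agent.BpSpor.Inn.b h
  obtain ⟨e⟩ := h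
  obtain ⟨f, hf⟩ := Cfsg.Agent.H792.SpBFive.exists_hom
  exact mrow_b_of e Cfsg.Agent.BM.KHAll.card_B f hf hinn

end Cfsg.Agent.H536.T5
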