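import Cfsg.Agent.H536.T5.FiveB

/-!
# The elements of order 5 of a group with a Sylow 5-subgroup `5^(1+4) : 5`: the order (helper536)
-/

set_option autoImplicit false

namespace Cfsg.Agent.H536.T5.Five

open Subgroup

variable {G : Type*} [Group G]

/-- Adding an element of order `p` normalizing the subgroup. -/
theorem dvd_step [Finite G] {p n : ℕ} (hp : p.Prime) {K : Subgroup G} {x : G} (hxp : x ^ p = 1) (hxK : x ∉ K)
    (hn : ∀ k ∈ K, x * k * x⁻¹ ∈ K) (h : n ∣ Nat.card K) : p * n ∣ Nat.card ↥(K ⊔ zpowers x) := by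
  have hp' : Fact p.Prime := ⟨hp⟩
  have hnp : ∀ (m : ℕ), ∀ k ∈ K, x ^ m * k * (x ^ m)⁻¹ ∈ K := by
    intro m
    induction m with
    | zero => intro k hk; simpa using hk
    | succ m ih =>
      intro k hk
      have e : x ^ (m + 1) * k * (x ^ (m + 1))⁻¹ = x * (x ^ m * k * (x ^ m)⁻¹) * x⁻¹ := by
        rw [pow_succ']; group
      rw [e]
      exact hn _ (ih k hk)
  have hinv : x ^ (p - 1) = x⁻¹ := by
    rw [eq_inv_iff_mul_eq_one, ← pow_succ, Nat.sub_add_cancel hp.one_le, hxp]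
  have hxN : x ∈ normalizer (K : Set G) := by
    rw [mem_normalizer_iff]
    intro k
    refine ⟨fun hk => hn k hk, fun hk => ?_⟩
    have h1 := hnp (p - 1) _ hk
    rw [hinv] at h1
    have e : x⁻¹ * (x * k * x⁻¹) * x⁻¹⁻¹ = k := by group
    rwa [e] at h1
  have hM : K ⊔ zpowers x ≤ normalizer (K : Set G) := sup_le le_normalizer (zpowers_le.2 hxN)
  have hnor : (K.subgroupOf (K ⊔ zpowers x)).Normal := by
    constructor
    rintro ⟨k, hk⟩ hkK ⟨g, hg⟩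
    rw [mem_subgroupOf] at hkK ⊢
    exact (mem_normalizer_iff.1 (hM hg) k).1 hkK
  have hxM : x ∈ K ⊔ zpowers x := mem_sup_right (mem_zpowers x)
  have ho : orderOf (QuotientGroup.mk' (K.subgroupOf (K ⊔ zpowers x)) ⟨x, hxM⟩) = p := by
    refine orderOf_eq_prime ?_ ?_
    · rw [← map_pow]
      have e : (⟨x, hxM⟩ : ↥(K ⊔ zpowers x)) ^ p = 1 := Subtype.ext hxp
      rw [e, map_one]
    · intro h1
      have h2 := (QuotientGroup.eq_one_iff _).1 h1
      rw [mem_subgroupOf] at h2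
      exact hxK h2
  have h1 : p ∣ (K.subgroupOf (K ⊔ zpowers x)).index := by
    rw [index_eq_card, ← ho]
    exact orderOf_dvd_natCard _
  have h2 : Nat.card ↥(K.subgroupOf (K ⊔ zpowers x)) = Nat.card K :=
    Nat.card_congr (subgroupOfEquivOfLe le_sup_left).toEquiv
  rw [← (K.subgroupOf (K ⊔ zpowers x)).index_mul_card, h2]
  exact mul_dvd_mul h1 h

/-- the elements commuting with `z` which `x` centralizes modulo `z` -/
def Dn (z x : G) : Subgroup G where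
  carrier := {g | g * z = z * g ∧ ∃ m : ℤ, x * g * x⁻¹ = g * z ^ m}
  one_mem' := ⟨by simp, 0, by simp⟩
  mul_mem' := by
    rintro g h ⟨hg, m, hm⟩ ⟨hh, m', hm'⟩
    refine ⟨((show Commute g z from hg).mul_left (show Commute h z from hh)).eq, m + m', ?_⟩
    calc x * (g * h) * x⁻¹ = (x * g * x⁻¹) * (x * h * x⁻¹) := by group
      _ = g * (z ^ m * h) * z ^ m' := by rw [hm, hm']; group
      _ = g * (h * z ^ m) * z ^ m' := by rw [((show Commute h z from hh).zpow_right m).eq]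
      _ = g * h * z ^ (m + m') := by rw [zpow_add]; group
  inv_mem' := by
    rintro g ⟨hg, m, hm⟩
    refine ⟨(show Commute g z from hg).inv_left.eq, -m, ?_⟩
    calc x * g⁻¹ * x⁻¹ = (x * g * x⁻¹)⁻¹ := by group
      _ = z ^ (-m) * g⁻¹ := by rw [hm, mul_inv_rev, zpow_neg]
      _ = g⁻¹ * z ^ (-m) := (((show Commute g z from hg).inv_left.zpow_right (-m)).eq).symm

section data

variable {z n1 n2 n3 n4 a t W v u : G} (D : Dat z n1 n2 n3 n4 a t W v u)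

include D

namespace Dat

theorem order_z : orderOf z = 5 := by
  have : Fact (Nat.Prime 5) := ⟨Nat.prime_five⟩
  exact orderOf_eq_prime D.z5 D.z1

theorem z2_ne : z ^ 2 ≠ 1 := by
  intro h
  apply D.z1
  calc z = z ^ (2 * 3) * (z ^ 5)⁻¹ := by group
    _ = 1 := by rw [D.z5, pow_mul, h]; simp

theorem z3_ne : z ^ 3 ≠ 1 := by
  intro h
  apply D.z1
  calc z = z ^ (3 * 2) * (z ^ 5)⁻¹ := by group
    _ = 1 := by rw [D.z5, pow_mul, h]; simp

theorem not14 : n1 * n4 ≠ n4 * n1 := by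
  intro h
  have h1 := D.n14
  rw [h, mul_assoc] at h1
  exact D.z2_ne (mul_eq_right.1 h1.symm)

theorem not23 : n2 * n3 ≠ n3 * n2 := by
  intro h
  have h1 := D.n23
  rw [h, mul_assoc] at h1
  exact D.z3_ne (mul_eq_right.1 h1.symm)

omit D in
theorem mem_cen {x y : G} (h : x * y = y * x) : x ∈ centralizer ({y} : Set G) := mem_centralizer_singleton_iff.2 h

/-- `n4` acting -/
theorem c41 : n4 * n1 * n4⁻¹ = n1 * z ^ (3 : ℤ) := by
  rw [mul_inv_eq_iff_eq_mul]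
  have hz : Commute (z ^ 3) n1 := (show Commute z n1 from D.zn1).pow_left 3
  have e : n1 * z ^ (3 : ℤ) * n4 = z ^ 3 * (n1 * n4) := by
    rw [← mul_assoc, hz.eq]
    norm_cast
  rw [e, D.n14]
  calc n4 * n1 = z ^ 5 * (n4 * n1) := by rw [D.z5, one_mul]
    _ = z ^ 3 * (z ^ 2 * n4 * n1) := by rw [show 5 = 3 + 2 from rfl, pow_add]; group

theorem c42 : n4 * n2 * n4⁻¹ = n2 * z ^ (3 : ℤ) := by
  rw [mul_inv_eq_iff_eq_mul]
  have hz : Commute (z ^ 3) n2 := (show Commute z n2 from D.zn2).pow_left 3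
  have e : n2 * z ^ (3 : ℤ) * n4 = z ^ 3 * (n2 * n4) := by
    rw [← mul_assoc, hz.eq]
    norm_cast
  rw [e, D.n24]
  calc n4 * n2 = z ^ 5 * (n4 * n2) := by rw [D.z5, one_mul]
    _ = z ^ 3 * (z ^ 2 * n4 * n2) := by rw [show 5 = 3 + 2 from rfl, pow_add]; group

theorem c32 : n3 * n2 * n3⁻¹ = n2 * z ^ (2 : ℤ) := by
  rw [mul_inv_eq_iff_eq_mul]
  have hz : Commute (z ^ 2) n2 := (show Commute z n2 from D.zn2).pow_left 2
  have e : n2 * z ^ (2 : ℤ) * n3 = z ^ 2 * (n2 * n3) := by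
    rw [← mul_assoc, hz.eq]
    norm_cast
  rw [e, D.n23]
  calc n3 * n2 = z ^ 5 * (n3 * n2) := by rw [D.z5, one_mul]
    _ = z ^ 2 * (z ^ 3 * n3 * n2) := by rw [show 5 = 2 + 3 from rfl, pow_add]; group

omit D in
theorem mem_Dn_of_comm {x g : G} (hg : z * g = g * z) (h : x * g = g * x) : g ∈ Dn z x :=
  ⟨hg.symm, 0, by rw [h, mul_inv_cancel_right, zpow_zero, mul_one]⟩

omit D in
theorem conj_mem_of_le {K : Subgroup G} {x : G} (hK : K ≤ Dn z x) (hz : z ∈ K) : ∀ k ∈ K, x * k * x⁻¹ ∈ K := by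
  intro k hk
  obtain ⟨-, m, hm⟩ := hK hk
  rw [hm]
  exact mul_mem hk (zpow_mem hz m)

variable (z n1 n2 n3 n4 a) in
/-- the Sylow subgroup -/
def Syl : Subgroup G := zpowers z ⊔ zpowers n1 ⊔ zpowers n2 ⊔ zpowers n3 ⊔ zpowers n4 ⊔ zpowers a

theorem card_Syl [Finite G] : 5 ^ 6 ∣ Nat.card (Syl z n1 n2 n3 n4 a) := by
  have hz0 : z ∈ zpowers z := mem_zpowers z
  have h0 : 5 ∣ Nat.card (zpowers z) := by rw [Nat.card_zpowers, D.order_z]
  -- `n1`
  have k1 : zpowers z ≤ Dn z n1 := zpowers_le.2 (mem_Dn_of_comm rfl D.zn1.symm)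
  have x1 : n1 ∉ zpowers z := fun h => D.not14 (mem_centralizer_singleton_iff.1
    ((zpowers_le.2 (mem_cen D.zn4) : zpowers z ≤ centralizer ({n4} : Set G)) h))
  have h1 := dvd_step Nat.prime_five D.p1 x1 (conj_mem_of_le k1 hz0) h0
  -- `n2`
  have k2 : zpowers z ⊔ zpowers n1 ≤ Dn z n2 := sup_le (zpowers_le.2 (mem_Dn_of_comm rfl D.zn2.symm))
    (zpowers_le.2 (mem_Dn_of_comm D.zn1 D.n12.symm))
  have x2 : n2 ∉ zpowers z ⊔ zpowers n1 := fun h => D.not23 (mem_centralizer_singleton_iff.1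
    ((sup_le (zpowers_le.2 (mem_cen D.zn3)) (zpowers_le.2 (mem_cen D.n13)) :
      zpowers z ⊔ zpowers n1 ≤ centralizer ({n3} : Set G)) h))
  have h2 := dvd_step Nat.prime_five D.p2 x2 (conj_mem_of_le k2 (mem_sup_left hz0)) h1
  -- `n3`
  have k3 : zpowers z ⊔ zpowers n1 ⊔ zpowers n2 ≤ Dn z n3 := sup_le (sup_le
    (zpowers_le.2 (mem_Dn_of_comm rfl D.zn3.symm)) (zpowers_le.2 (mem_Dn_of_comm D.zn1 D.n13.symm)))
    (zpowers_le.2 ⟨D.zn2.symm, 2, D.c32⟩)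
  have x3 : n3 ∉ zpowers z ⊔ zpowers n1 ⊔ zpowers n2 := fun h => D.not23 (mem_centralizer_singleton_iff.1
    ((sup_le (sup_le (zpowers_le.2 (mem_cen D.zn2)) (zpowers_le.2 (mem_cen D.n12))) (zpowers_le.2 (mem_cen rfl)) :
      zpowers z ⊔ zpowers n1 ⊔ zpowers n2 ≤ centralizer ({n2} : Set G)) h)).symm
  have h3 := dvd_step Nat.prime_five D.p3 x3 (conj_mem_of_le k3 (mem_sup_left (mem_sup_left hz0))) h2
  -- `n4`
  have k4 : zpowers z ⊔ zpowers n1 ⊔ zpowers n2 ⊔ zpowers n3 ≤ Dn z n4 := sup_le (sup_le (sup_le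
    (zpowers_le.2 (mem_Dn_of_comm rfl D.zn4.symm)) (zpowers_le.2 ⟨D.zn1.symm, 3, D.c41⟩))
    (zpowers_le.2 ⟨D.zn2.symm, 3, D.c42⟩)) (zpowers_le.2 (mem_Dn_of_comm D.zn3 D.n34.symm))
  have x4 : n4 ∉ zpowers z ⊔ zpowers n1 ⊔ zpowers n2 ⊔ zpowers n3 := fun h => D.not14
    (mem_centralizer_singleton_iff.1 ((sup_le (sup_le (sup_le (zpowers_le.2 (mem_cen D.zn1))
      (zpowers_le.2 (mem_cen rfl))) (zpowers_le.2 (mem_cen D.n12.symm))) (zpowers_le.2 (mem_cen D.n13.symm)) :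
      zpowers z ⊔ zpowers n1 ⊔ zpowers n2 ⊔ zpowers n3 ≤ centralizer ({n1} : Set G)) h)).symm
  have h4 := dvd_step Nat.prime_five D.p4 x4 (conj_mem_of_le k4 (mem_sup_left (mem_sup_left (mem_sup_left hz0)))) h3
  -- `a`
  have i0 : z ∈ zpowers z ⊔ zpowers n1 ⊔ zpowers n2 ⊔ zpowers n3 ⊔ zpowers n4 :=
    mem_sup_left (mem_sup_left (mem_sup_left (mem_sup_left hz0)))
  have i1 : n1 ∈ zpowers z ⊔ zpowers n1 ⊔ zpowers n2 ⊔ zpowers n3 ⊔ zpowers n4 :=
    mem_sup_left (mem_sup_left (mem_sup_left (mem_sup_right (mem_zpowers n1))))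
  have i2 : n2 ∈ zpowers z ⊔ zpowers n1 ⊔ zpowers n2 ⊔ zpowers n3 ⊔ zpowers n4 :=
    mem_sup_left (mem_sup_left (mem_sup_right (mem_zpowers n2)))
  have i3 : n3 ∈ zpowers z ⊔ zpowers n1 ⊔ zpowers n2 ⊔ zpowers n3 ⊔ zpowers n4 :=
    mem_sup_left (mem_sup_right (mem_zpowers n3))
  have i4 : n4 ∈ zpowers z ⊔ zpowers n1 ⊔ zpowers n2 ⊔ zpowers n3 ⊔ zpowers n4 := mem_sup_right (mem_zpowers n4)
  have ka : ∀ k ∈ zpowers z ⊔ zpowers n1 ⊔ zpowers n2 ⊔ zpowers n3 ⊔ zpowers n4,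
      a * k * a⁻¹ ∈ zpowers z ⊔ zpowers n1 ⊔ zpowers n2 ⊔ zpowers n3 ⊔ zpowers n4 := by
    have hle : zpowers z ⊔ zpowers n1 ⊔ zpowers n2 ⊔ zpowers n3 ⊔ zpowers n4 ≤
        (zpowers z ⊔ zpowers n1 ⊔ zpowers n2 ⊔ zpowers n3 ⊔ zpowers n4).comap (MulAut.conj a).toMonoidHom := by
      refine sup_le (sup_le (sup_le (sup_le ?_ ?_) ?_) ?_) ?_
      · rw [zpowers_le, mem_comap]
        change a * z * a⁻¹ ∈ _
        rw [← D.za, mul_inv_cancel_right]; exact i0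
      · rw [zpowers_le, mem_comap]
        change a * n1 * a⁻¹ ∈ _
        rw [D.an1, mul_inv_cancel_right]; exact i1
      · rw [zpowers_le, mem_comap]
        change a * n2 * a⁻¹ ∈ _
        rw [D.an2, mul_inv_cancel_right]; exact mul_mem i1 i2
      · rw [zpowers_le, mem_comap]
        change a * n3 * a⁻¹ ∈ _
        rw [D.an3, mul_inv_cancel_right]; exact mul_mem i2 i3
      · rw [zpowers_le, mem_comap]
        change a * n4 * a⁻¹ ∈ _
        rw [D.an4, mul_inv_cancel_right]; exact mul_mem i3 i4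
    exact fun k hk => hle hk
  have xa : a ∉ zpowers z ⊔ zpowers n1 ⊔ zpowers n2 ⊔ zpowers n3 ⊔ zpowers n4 := by
    intro h
    have h6 : a ∈ Dn z n4 := (sup_le k4 (zpowers_le.2 (mem_Dn_of_comm D.zn4 rfl)) :
      zpowers z ⊔ zpowers n1 ⊔ zpowers n2 ⊔ zpowers n3 ⊔ zpowers n4 ≤ Dn z n4) h
    obtain ⟨-, m, hm⟩ := h6
    have e1 : n4 * a * n4⁻¹ = n3⁻¹ * a := by
      rw [mul_inv_eq_iff_eq_mul, mul_assoc, D.an4]; group
    rw [e1, ((show Commute a z from D.za.symm).zpow_right m).eq] at hm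
    have e2 : n3⁻¹ = z ^ m := mul_right_cancel hm
    have e3 : n3 = z ^ (-m) := by rw [zpow_neg, ← e2, inv_inv]
    apply D.not23
    have h7 : Commute (z ^ (-m)) n2 := (show Commute z n2 from D.zn2).zpow_left (-m)
    rw [e3]
    exact h7.eq.symm
  have h5 := dvd_step Nat.prime_five D.a5 xa ka h4
  have e : 5 ^ 6 = 5 * (5 * (5 * (5 * (5 * 5)))) := by norm_num
  rw [e]
  exact h5

/-- the elements `e w * A ^ l` -/
def S : Subgroup (C z) where
  carrier := {x | ∃ w l, π z x = D.e w * D.A ^ l}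
  one_mem' := ⟨(0, 0, 0, 0), 0, by rw [map_one, pow_zero, mul_one, e, E_zero]⟩
  mul_mem' := by
    rintro x y ⟨w, l, hx⟩ ⟨w', l', hy⟩
    obtain ⟨w'', hw⟩ := D.exists_A_pow_e l w'
    refine ⟨add w w'', l + l', ?_⟩
    rw [map_mul, hx, hy, ← mul_assoc, mul_assoc (D.e w), hw, ← mul_assoc, D.e_mul, mul_assoc, ← pow_add]
  inv_mem' := by
    rintro x ⟨w, l, hx⟩
    obtain ⟨w'', hw⟩ := D.exists_A_pow_e (4 * l) (smul 4 w)
    refine ⟨w'', 4 * l, ?_⟩
    rw [map_inv, hx, ← hw]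
    apply inv_eq_of_mul_eq_one_right
    have h1 : D.A ^ l * D.A ^ (4 * l) = 1 := by
      rw [← pow_add, show l + 4 * l = 5 * l by ring, pow_mul, D.A5, one_pow]
    have h2 : D.e w * D.e (smul 4 w) = 1 := by
      obtain ⟨i, j, k, m⟩ := w
      rw [D.e_mul, add, smul]
      simp only
      rw [D.e_mod (i' := 0) (j' := 0) (k' := 0) (l' := 0) (by omega) (by omega) (by omega) (by omega), e, E_zero]
    rw [mul_assoc, ← mul_assoc (D.A ^ l), h1, one_mul, h2]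

theorem Syl_le : Syl z n1 n2 n3 n4 a ≤ D.S.map (C z).subtype := by
  have key : ∀ x : C z, x ∈ D.S → zpowers (x : G) ≤ D.S.map (C z).subtype := by
    intro x hx
    rw [zpowers_le]
    exact ⟨x, hx, rfl⟩
  refine sup_le (sup_le (sup_le (sup_le (sup_le ?_ ?_) ?_) ?_) ?_) ?_
  · exact key ⟨z, mem_C rfl⟩ ⟨(0, 0, 0, 0), 0, by rw [π_z, pow_zero, mul_one, e, E_zero]⟩
  · exact key ⟨n1, mem_C D.zn1⟩ ⟨(1, 0, 0, 0), 0, by
      have e1 : D.e (1, 0, 0, 0) = D.m1 := by simp [e, E]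
      rw [e1, pow_zero, mul_one]; rfl⟩
  · exact key ⟨n2, mem_C D.zn2⟩ ⟨(0, 1, 0, 0), 0, by
      have e1 : D.e (0, 1, 0, 0) = D.m2 := by simp [e, E]
      rw [e1, pow_zero, mul_one]; rfl⟩
  · exact key ⟨n3, mem_C D.zn3⟩ ⟨(0, 0, 1, 0), 0, by
      have e1 : D.e (0, 0, 1, 0) = D.m3 := by simp [e, E]
      rw [e1, pow_zero, mul_one]; rfl⟩
  · exact key ⟨n4, mem_C D.zn4⟩ ⟨(0, 0, 0, 1), 0, by
      have e1 : D.e (0, 0, 0, 1) = D.m4 := by simp [e, E]
      rw [e1, pow_zero, mul_one]; rfl⟩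
  · exact key ⟨a, mem_C D.za⟩ ⟨(0, 0, 0, 0), 1, by
      rw [pow_one, e, E_zero, one_mul]; rfl⟩

/-- **Every element of order 5 commutes with an involution.** -/
theorem exists_inv [Finite G] (h7 : ¬ 5 ^ 7 ∣ Nat.card G) {x : G} (hx : orderOf x = 5) : Inv x := by
  have : Fact (Nat.Prime 5) := ⟨Nat.prime_five⟩
  have h6 : 5 ^ 6 ∣ Nat.card ↥(D.S.map (C z).subtype) := D.card_Syl.trans (card_dvd_of_le D.Syl_le)
  have hidx : ¬ 5 ∣ (D.S.map (C z).subtype).index := by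
    intro h
    apply h7
    rw [← (D.S.map (C z).subtype).card_mul_index, pow_succ]
    exact mul_dvd_mul h6 h
  obtain ⟨g, c, ⟨w, l, hc⟩, hcx⟩ := H533.T5.exists_conj_mem_of_index hidx hx
  refine Inv.of_conj g ?_
  rw [← hcx]
  refine D.P_all w l c hc ?_
  change (C z).subtype c ^ 5 = 1
  rw [hcx, conj_pow, ← hx, pow_orderOf_eq_one, mul_one, mul_inv_cancel]

end Dat

end data

end Cfsg.Agent.H536.T5.Five
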