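import Cfsg.Agent.H536.T5.HNRow
import Cfsg.Agent.BpSpor.Inn.Base

/-!
# The weak rows `(HN, 5)` and `(B, 5)` (helper536, task T5-SP4)
-/

set_option autoImplicit false

namespace Cfsg.Agent.H536.T5

open Subgroup Cfsg Cfsg.Agent.H533.T5

universe u

/-- a finite simple group of composite order is not commutative -/
theorem not_comm_of_card {K : Type*} [Group K] [Finite K] [IsSimpleGroup K] (h : ¬ (Nat.card K).Prime) :
    ¬ IsMulCommutative K := by
  intro hc
  let _ : CommGroup K := { ‹Group K› with mul_comm := hc.is_comm.comm }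
  exact h IsSimpleGroup.prime_card

/-- pairs along an isomorphism -/
theorem wpair_equiv {G H : Type*} [Group G] [Group H] {p : ℕ} (e : G ≃* H) {x y : G}
    (h : WPair p (⊤ : Subgroup H) (e x) (e y)) : WPair p (⊤ : Subgroup G) x y := by
  refine WPair.of_hom e.toMonoidHom ?_ h
  rw [← MonoidHom.range_eq_map, MonoidHom.range_eq_top.2 e.surjective]

/-- a row from the pairs in a model, and the automorphisms of odd order -/
theorem wrow_of_model {K H : Type*} [Group K] [Finite K] [IsSimpleGroup K] [Group H] {p : ℕ} (hp : p.Prime) (hp2 : p ≠ 2)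
    (hcard : ¬ (Nat.card K).Prime) (hinn : Cfsg.Agent.BpSpor.Inn.OddInn K) (e : K ≃* H)
    (h : ∀ x y : H, orderOf x = p → orderOf y = p → WPair p (⊤ : Subgroup H) x y) : WRow p K := by
  refine WRow.of_inner (not_comm_of_card hcard) (fun a ha => ?_) (fun x y hx hy => wpair_equiv e (h _ _ ?_ ?_))
  · obtain ⟨g, rfl⟩ := hinn p hp hp2 a ha
    exact ⟨g, rfl⟩
  · rw [MulEquiv.orderOf_eq, hx]
  · rw [MulEquiv.orderOf_eq, hy]

/-- **the row `(HN, 5)`** -/
theorem hn (K : Type u) [Group K] [Finite K] [IsSimpleGroup K] (h : Spor.IsoHN K) : WRow 5 K := by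
  obtain ⟨e⟩ := h
  refine wrow_of_model (by norm_num) (by norm_num) ?_ (BpSpor.Inn.OddInn.congr e (BpSpor.Inn.of_index Cfsg.Agent.KFacts.HN.out_index)) e
    fun x y hx hy => wpair hx hy
  rw [Nat.card_congr e.toEquiv, card_HN]
  norm_num

/-- the pairs of `B` from the subgroup `HN` of index prime to 5 -/
theorem pairs_b {B : Type*} [Group B] (hB : Nat.card B = 4154781481226426191177580544000000) (f : Spor.HN →* B)
    (hf : Function.Injective f) {x y : B} (hx : orderOf x = 5) (hy : orderOf y = 5) : WPair 5 (⊤ : Subgroup B) x y := by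
  have : Fact (Nat.Prime 5) := ⟨Nat.prime_five⟩
  have hfin : Finite B := Nat.finite_of_card_ne_zero (by rw [hB]; norm_num)
  have h1 : Nat.card f.range = 273030912000000 := by
    rw [← card_HN]
    exact (Nat.card_congr (MonoidHom.ofInjective hf).toEquiv).symm
  have h2 := Subgroup.card_mul_index f.range
  rw [h1, hB] at h2
  have h3 : f.range.index = 15217256723027853312 := by omega
  let e : f.range ≃* Spor.HN := (MonoidHom.ofInjective hf).symm
  refine WPair.of_sylow (K := f.range) (by rw [h3]; norm_num) (fun a b ha hb => wpair_equiv e (wpair ?_ ?_)) hx hy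
  · rw [MulEquiv.orderOf_eq, ha]
  · rw [MulEquiv.orderOf_eq, hb]

/-- the row `(B, 5)` from the embedding -/
theorem row_b {K B : Type*} [Group K] [Finite K] [IsSimpleGroup K] [Group B] (e : K ≃* B)
    (hB : Nat.card B = 4154781481226426191177580544000000) (f : Spor.HN →* B) (hf : Function.Injective f)
    (hinn : Cfsg.Agent.BpSpor.Inn.OddInn K) : WRow 5 K := by
  refine wrow_of_model (by norm_num) (by norm_num) ?_ hinn e fun x y hx hy => pairs_b hB f hf hx hy
  rw [Nat.card_congr e.toEquiv, hB]
  norm_num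

end Cfsg.Agent.H536.T5
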