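import Cfsg.Agent.H536.T5.Prog

/-!
# Cutting a straight line program into pieces (helper536)

* `checkE` : run a program and compare all results with a list of numbers; `checkE_sound`;
* `okM_sound` : a program whose superfluous steps are replaced by others has the same good results.
-/

set_option autoImplicit false

namespace Cfsg.Agent.H536.T5.Cut

open Cfsg.Agent.Lib.PackMat Cfsg.Agent.Lib.PackMatGroup Cfsg.Agent.Lib.PackMatMul Cfsg.Agent.H536.T5.Prog

/-- equality of two lists of numbers -/
noncomputable def eqL (A : List ℕ) : List ℕ → Bool :=
  List.rec (motive := fun _ => List ℕ → Bool) (fun B => List.rec true (fun _ _ _ => false) B)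
    (fun a _ ih B => List.rec false (fun b B _ => bif Nat.beq a b then ih B else false) B) A

theorem eqL_sound {A : List ℕ} : ∀ {B : List ℕ}, eqL A B = true → A = B := by
  induction A with
  | nil =>
    intro B h
    cases B with
    | nil => rfl
    | cons b B => exact absurd h (by simp [eqL])
  | cons a A ih =>
    intro B h
    cases B with
    | nil => exact absurd h (by simp [eqL])
    | cons b B =>
      have h' : (bif Nat.beq a b then eqL A B else false) = true := h
      rcases hb : Nat.beq a b with _ | _
      · rw [hb] at h'; simp at h'
      · rw [hb, cond_true] at h'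
        rw [Nat.eq_of_beq_eq_true hb, ih h']

/-- Run a program and compare all results with a list of numbers. -/
noncomputable def checkE (C : Cfg) (ws : List (ℕ × List ℕ)) (L L' : List ℕ) : Bool :=
  bif okS ws L.length then withM C fun f => runS f ws L fun M => eqL M L' else false

variable {C : Cfg}

theorem checkE_sound (hC : Good C) {LG : List (U C)} {L L' : List ℕ} (h : List.Forall₂ (CodesR C) LG L)
    {ws : List (ℕ × List ℕ)} (hc : checkE C ws L L' = true) : List.Forall₂ (CodesR C) (runG ws LG) L' := by
  unfold checkE at hc
  rcases h1 : okS ws L.length with _ | _
  · rw [h1] at hc; simp at hc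
  rw [h1, cond_true, withM_eq] at hc
  obtain ⟨M, hM, hk⟩ := runS_sound hC h h1 hc
  rw [← eqL_sound hk]
  exact hM

section mask

variable {G : Type*} [Group G]

theorem runG_append (ws ws' : List (ℕ × List ℕ)) (LG : List G) : runG (ws ++ ws') LG = runG ws' (runG ws LG) := by
  induction ws generalizing LG with
  | nil => rfl
  | cons w ws ih => rw [List.cons_append, runG_cons, runG_cons, ih]

/-- the final mask -/
def fm : List Bool → List Bool → List Bool
  | [], m => m
  | g :: gs, m => fm gs (g :: m)

/-- the two programs agree at the steps marked by `gs`, and these use only marked results -/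
def okM : List Bool → List (ℕ × List ℕ) → List (ℕ × List ℕ) → List Bool → Bool
  | [], [], [], _ => true
  | g :: gs, w :: ws, w' :: ws', m =>
    (!g || (w == w' && m.getD w.1 false && w.2.all fun j => m.getD j false)) && okM gs ws ws' (g :: m)
  | _, _, _, _ => false

theorem evG_congr {A B : List G} {m : List Bool} (h : ∀ i, m.getD i false = true → A.getD i 1 = B.getD i 1)
    {w : List ℕ} (hw : ∀ j ∈ w, m.getD j false = true) : evG A w = evG B w := by
  induction w with
  | nil => rfl
  | cons j w ih =>
    rw [evG_cons, evG_cons, h j (hw j List.mem_cons_self), ih fun k hk => hw k (List.mem_cons_of_mem _ hk)]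

theorem okM_sound : ∀ (gs : List Bool) (ws ws' : List (ℕ × List ℕ)) (m : List Bool) (A B : List G),
    (∀ i, m.getD i false = true → A.getD i 1 = B.getD i 1) → okM gs ws ws' m = true →
    ∀ i, (fm gs m).getD i false = true → (runG ws A).getD i 1 = (runG ws' B).getD i 1 := by
  intro gs
  induction gs with
  | nil =>
    intro ws ws' m A B h hok
    cases ws with
    | cons w ws => exact absurd hok (by simp [okM])
    | nil =>
      cases ws' with
      | cons w' ws' => exact absurd hok (by simp [okM])
      | nil => exact h
  | cons g gs ih =>
    intro ws ws' m A B h hok
    cases ws with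
    | nil => exact absurd hok (by simp [okM])
    | cons w ws =>
      cases ws' with
      | nil => exact absurd hok (by simp [okM])
      | cons w' ws' =>
        rw [okM, Bool.and_eq_true] at hok
        obtain ⟨h1, h2⟩ := hok
        rw [runG_cons, runG_cons]
        refine ih ws ws' (g :: m) _ _ ?_ h2
        intro i hi
        cases i with
        | succ i =>
          rw [List.getD_cons_succ] at hi ⊢
          rw [List.getD_cons_succ]
          exact h i hi
        | zero =>
          rw [List.getD_cons_zero] at hi ⊢
          rw [List.getD_cons_zero]
          subst hi
          rw [Bool.not_true, Bool.false_or, Bool.and_eq_true, Bool.and_eq_true, List.all_eq_true] at h1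
          obtain ⟨⟨h3, h4⟩, h5⟩ := h1
          rw [← eq_of_beq h3]
          refine evG_congr h fun j hj => ?_
          rcases List.mem_cons.mp hj with rfl | hj
          · exact h4
          · exact h5 j hj

end mask

end Cfsg.Agent.H536.T5.Cut
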