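import Cfsg.Agent.H533.T5.Tools

/-!
# The elements of order 5 of a group with a Sylow 5-subgroup `5^(1+4) : 5` (helper536)

`Dat` : the relations between generators `z, n1, …, n4, a` of a Sylow 5-subgroup of `HN`, an involution `t` of its
normalizer, and involutions commuting with certain elements. `exists_inv` : every element of order 5 commutes with an
involution.
-/

set_option autoImplicit false

namespace Cfsg.Agent.H536.T5.Five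

open Subgroup

/-- The relations. -/
structure Dat {G : Type*} [Group G] (z n1 n2 n3 n4 a t W v u : G) : Prop where
  z5 : z ^ 5 = 1
  z1 : z ≠ 1
  a5 : a ^ 5 = 1
  p1 : n1 ^ 5 = 1
  p2 : n2 ^ 5 = 1
  p3 : n3 ^ 5 = 1
  p4 : n4 ^ 5 = 1
  zn1 : z * n1 = n1 * z
  zn2 : z * n2 = n2 * z
  zn3 : z * n3 = n3 * z
  zn4 : z * n4 = n4 * z
  za : z * a = a * z
  zt : z * t = t * z
  n12 : n1 * n2 = n2 * n1
  n13 : n1 * n3 = n3 * n1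
  n14 : n1 * n4 = z ^ 2 * n4 * n1
  n23 : n2 * n3 = z ^ 3 * n3 * n2
  n24 : n2 * n4 = z ^ 2 * n4 * n2
  n34 : n3 * n4 = n4 * n3
  an1 : a * n1 = n1 * a
  an2 : a * n2 = n1 * n2 * a
  an3 : a * n3 = n2 * n3 * a
  an4 : a * n4 = n3 * n4 * a
  t2 : t * t = 1
  t1 : t ≠ 1
  tn1 : t * n1 = n2 * n3 ^ 4 * z ^ 3 * t
  tn2 : t * n2 = n1 * n3 ^ 4 * n4 ^ 4 * z ^ 4 * t
  tn3 : t * n3 = n3 ^ 4 * n4 ^ 4 * z ^ 2 * t
  tn4 : t * n4 = n4 * t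
  W2 : W * W = 1
  W1 : W ≠ 1
  Wa : W * a = a * W
  Wz : W * z = z * W
  v2 : v * v = 1
  v1 : v ≠ 1
  vn1 : v * n1 = n1 * v
  u2 : u * u = 1
  u1 : u ≠ 1
  uy : u * (n1 * n2 * z ^ 4) = n1 * n2 * z ^ 4 * u
  q1 : (n4 ^ 1 * a) ^ 5 ≠ 1
  q2 : (n4 ^ 2 * a) ^ 5 ≠ 1
  q3 : (n4 ^ 3 * a) ^ 5 ≠ 1
  q4 : (n4 ^ 4 * a) ^ 5 ≠ 1

/-! ### Vectors -/

/-- the action of `a` -/
def fa (v : ℕ × ℕ × ℕ × ℕ) : ℕ × ℕ × ℕ × ℕ :=
  ((v.1 + v.2.1) % 5, (v.2.1 + v.2.2.1) % 5, (v.2.2.1 + v.2.2.2) % 5, v.2.2.2)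

/-- the action of `t` -/
def ft (v : ℕ × ℕ × ℕ × ℕ) : ℕ × ℕ × ℕ × ℕ :=
  (v.2.1, v.1, (4 * v.1 + 4 * v.2.1 + 4 * v.2.2.1) % 5, (4 * v.2.1 + 4 * v.2.2.1 + v.2.2.2) % 5)

/-- multiplication by 2 -/
def fs (v : ℕ × ℕ × ℕ × ℕ) : ℕ × ℕ × ℕ × ℕ :=
  (2 * v.1 % 5, 2 * v.2.1 % 5, 2 * v.2.2.1 % 5, 2 * v.2.2.2 % 5)

/-- the code of a vector -/
def code (v : ℕ × ℕ × ℕ × ℕ) : ℕ := v.1 + 5 * v.2.1 + 25 * v.2.2.1 + 125 * v.2.2.2

/-- the table of moves -/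
def tab : ℕ := 0x1655956da4a5995559a19d95575545599555a52556955a65695a99569a555545a5d55556156ad5a5586955a559919a56a5a64a56557d595a5eaa66555955519675955589556655b915565665989955965a515555996959656556699b555465e56a696166555996455a566d5a19959559645a6b5a656659557e5566965529595566589569559d51d955666586e655696619e955a5695a75775d77547f0

/-- one move -/
def step (v : ℕ × ℕ × ℕ × ℕ) : ℕ × ℕ × ℕ × ℕ :=
  match tab / 4 ^ code v % 4 with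
  | 1 => fa v
  | 2 => ft v
  | 3 => fs v
  | _ => v

/-- the vectors at the end -/
def fin (v : ℕ × ℕ × ℕ × ℕ) : Bool := ft v == v || v == (1, 0, 0, 0) || v == (1, 1, 0, 0)

/-- `n` moves -/
def steps : ℕ → ℕ × ℕ × ℕ × ℕ → ℕ × ℕ × ℕ × ℕ
  | 0, v => v
  | n + 1, v => steps n (step v)

/-- the vector with a given code -/
def dec (c : ℕ) : ℕ × ℕ × ℕ × ℕ := (c % 5, c / 5 % 5, c / 25 % 5, c / 125)

theorem chk : ∀ c : Fin 625, (c : ℕ) ≠ 0 → fin (steps 11 (dec c)) = true := by decide +kernel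

theorem chk' {i j k l : ℕ} (hi : i < 5) (hj : j < 5) (hk : k < 5) (hl : l < 5) (h : ¬ (i = 0 ∧ j = 0 ∧ k = 0 ∧ l = 0)) :
    fin (steps 11 (i, j, k, l)) = true := by
  have h1 := chk ⟨i + 5 * j + 25 * k + 125 * l, by omega⟩ (by simp only; omega)
  have h2 : dec (i + 5 * j + 25 * k + 125 * l) = (i, j, k, l) := by
    unfold dec
    have e1 : (i + 5 * j + 25 * k + 125 * l) % 5 = i := by omega
    have e2 : (i + 5 * j + 25 * k + 125 * l) / 5 % 5 = j := by omega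
    have e3 : (i + 5 * j + 25 * k + 125 * l) / 25 % 5 = k := by omega
    have e4 : (i + 5 * j + 25 * k + 125 * l) / 125 = l := by omega
    rw [e1, e2, e3, e4]
  rw [h2] at h1
  exact h1

/-! ### Commuting elements of order 5 -/

section vec

variable {Q : Type*} [Group Q] {m1 m2 m3 m4 : Q}

/-- four pairwise commuting elements -/
structure Com (m1 m2 m3 m4 : Q) : Prop where
  c12 : Commute m1 m2
  c13 : Commute m1 m3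
  c14 : Commute m1 m4
  c23 : Commute m2 m3
  c24 : Commute m2 m4
  c34 : Commute m3 m4
  f1 : m1 ^ 5 = 1
  f2 : m2 ^ 5 = 1
  f3 : m3 ^ 5 = 1
  f4 : m4 ^ 5 = 1

variable (m1 m2 m3 m4) in
/-- the element with a given vector -/
def E (v : ℕ × ℕ × ℕ × ℕ) : Q := m1 ^ v.1 * m2 ^ v.2.1 * m3 ^ v.2.2.1 * m4 ^ v.2.2.2

/-- the sum of vectors -/
def add (v w : ℕ × ℕ × ℕ × ℕ) : ℕ × ℕ × ℕ × ℕ := (v.1 + w.1, v.2.1 + w.2.1, v.2.2.1 + w.2.2.1, v.2.2.2 + w.2.2.2)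

/-- multiples of vectors -/
def smul (n : ℕ) (v : ℕ × ℕ × ℕ × ℕ) : ℕ × ℕ × ℕ × ℕ := (n * v.1, n * v.2.1, n * v.2.2.1, n * v.2.2.2)

theorem E_mul (h : Com m1 m2 m3 m4) (v w : ℕ × ℕ × ℕ × ℕ) :
    E m1 m2 m3 m4 v * E m1 m2 m3 m4 w = E m1 m2 m3 m4 (add v w) := by
  unfold E add
  have c4 : Commute (m4 ^ v.2.2.2) (m1 ^ w.1 * m2 ^ w.2.1 * m3 ^ w.2.2.1) :=
    (((h.c14.pow_pow _ _).symm).mul_right ((h.c24.pow_pow _ _).symm)).mul_right ((h.c34.pow_pow _ _).symm)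
  have c3 : Commute (m3 ^ v.2.2.1) (m1 ^ w.1 * m2 ^ w.2.1) :=
    ((h.c13.pow_pow _ _).symm).mul_right ((h.c23.pow_pow _ _).symm)
  have c2 : Commute (m2 ^ v.2.1) (m1 ^ w.1) := (h.c12.pow_pow _ _).symm
  rw [c4.mul_mul_mul_comm, c3.mul_mul_mul_comm, c2.mul_mul_mul_comm, ← pow_add, ← pow_add, ← pow_add, ← pow_add]

theorem E_zero : E m1 m2 m3 m4 (0, 0, 0, 0) = 1 := by simp [E]

theorem E_pow (h : Com m1 m2 m3 m4) (v : ℕ × ℕ × ℕ × ℕ) (n : ℕ) :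
    E m1 m2 m3 m4 v ^ n = E m1 m2 m3 m4 (smul n v) := by
  induction n with
  | zero => simp [smul, E]
  | succ n ih =>
    rw [pow_succ, ih, E_mul h]
    congr 1
    simp only [add, smul, Prod.mk.injEq]
    refine ⟨?_, ?_, ?_, ?_⟩ <;> ring

theorem E_mod (h : Com m1 m2 m3 m4) {i j k l i' j' k' l' : ℕ} (hi : i % 5 = i' % 5) (hj : j % 5 = j' % 5)
    (hk : k % 5 = k' % 5) (hl : l % 5 = l' % 5) : E m1 m2 m3 m4 (i, j, k, l) = E m1 m2 m3 m4 (i', j', k', l') := by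
  unfold E
  simp only
  rw [pow_eq_pow_mod i h.f1, pow_eq_pow_mod j h.f2, pow_eq_pow_mod k h.f3, pow_eq_pow_mod l h.f4, hi, hj, hk, hl,
    ← pow_eq_pow_mod i' h.f1, ← pow_eq_pow_mod j' h.f2, ← pow_eq_pow_mod k' h.f3, ← pow_eq_pow_mod l' h.f4]

/-- the image under an automorphism -/
theorem E_map (h : Com m1 m2 m3 m4) (f : Q →* Q) {w1 w2 w3 w4 : ℕ × ℕ × ℕ × ℕ} (h1 : f m1 = E m1 m2 m3 m4 w1)
    (h2 : f m2 = E m1 m2 m3 m4 w2) (h3 : f m3 = E m1 m2 m3 m4 w3) (h4 : f m4 = E m1 m2 m3 m4 w4)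
    (v : ℕ × ℕ × ℕ × ℕ) : f (E m1 m2 m3 m4 v) =
      E m1 m2 m3 m4 (add (add (add (smul v.1 w1) (smul v.2.1 w2)) (smul v.2.2.1 w3)) (smul v.2.2.2 w4)) := by
  have e : f (E m1 m2 m3 m4 v) = f m1 ^ v.1 * f m2 ^ v.2.1 * f m3 ^ v.2.2.1 * f m4 ^ v.2.2.2 := by
    simp only [E, map_mul, map_pow]
  rw [e, h1, h2, h3, h4, E_pow h, E_pow h, E_pow h, E_pow h, E_mul h, E_mul h, E_mul h]

theorem E_fa (h : Com m1 m2 m3 m4) {A : Q} (h1 : A * m1 * A⁻¹ = m1) (h2 : A * m2 * A⁻¹ = m1 * m2)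
    (h3 : A * m3 * A⁻¹ = m2 * m3) (h4 : A * m4 * A⁻¹ = m3 * m4) (v : ℕ × ℕ × ℕ × ℕ) :
    A * E m1 m2 m3 m4 v * A⁻¹ = E m1 m2 m3 m4 (fa v) := by
  have e := E_map h (MulAut.conj A).toMonoidHom (w1 := (1, 0, 0, 0)) (w2 := (1, 1, 0, 0)) (w3 := (0, 1, 1, 0))
    (w4 := (0, 0, 1, 1)) (by simp [E, h1]) (by simp [E, h2]) (by simp [E, h3]) (by simp [E, h4]) v
  have e1 : (MulAut.conj A).toMonoidHom (E m1 m2 m3 m4 v) = A * E m1 m2 m3 m4 v * A⁻¹ := rfl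
  rw [← e1, e]
  simp only [add, smul, fa]
  apply E_mod h <;> omega

theorem E_ft (h : Com m1 m2 m3 m4) {T : Q} (h1 : T * m1 * T⁻¹ = m2 * m3 ^ 4) (h2 : T * m2 * T⁻¹ = m1 * m3 ^ 4 * m4 ^ 4)
    (h3 : T * m3 * T⁻¹ = m3 ^ 4 * m4 ^ 4) (h4 : T * m4 * T⁻¹ = m4) (v : ℕ × ℕ × ℕ × ℕ) :
    T * E m1 m2 m3 m4 v * T⁻¹ = E m1 m2 m3 m4 (ft v) := by
  have e := E_map h (MulAut.conj T).toMonoidHom (w1 := (0, 1, 4, 0)) (w2 := (1, 0, 4, 4)) (w3 := (0, 0, 4, 4))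
    (w4 := (0, 0, 0, 1)) (by simp [E, h1]) (by simp [E, h2]) (by simp [E, h3]) (by simp [E, h4]) v
  have e1 : (MulAut.conj T).toMonoidHom (E m1 m2 m3 m4 v) = T * E m1 m2 m3 m4 v * T⁻¹ := rfl
  rw [← e1, e]
  simp only [add, smul, ft]
  apply E_mod h <;> omega

theorem E_fs (h : Com m1 m2 m3 m4) (v : ℕ × ℕ × ℕ × ℕ) : E m1 m2 m3 m4 v ^ 2 = E m1 m2 m3 m4 (fs v) := by
  rw [E_pow h]
  simp only [smul, fs]
  apply E_mod h <;> omega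

end vec

end Cfsg.Agent.H536.T5.Five
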