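import Cfsg.Agent.H536.T5.DataA

/-!
# The Harada–Norton group: pairs of elements of order 5, traces, checked in the 133-dimensional representation (helper536)
-/

set_option autoImplicit false
set_option maxRecDepth 100000

namespace Cfsg.Agent.H536.T5

open Cfsg.Agent.HN.XWords (V)

/-- the word of a class 5B element of `HS` -/
def w2w : List ℕ := [2, 2, 1, 2, 2, 0]
/-- the word of a class 5C element of `HS` -/
def w3w : List ℕ := [0, 2, 0, 3, 3, 4, 2, 4, 0, 2]

/-- `x` and some conjugate of `y` have a product `≠ 1` of order prime to 5 -/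
def Prd {G : Type*} [Group G] (x y : G) : Prop :=
  ∃ g g' : G, g * g' = 1 ∧ x * g * y * g' ≠ 1 ∧ (x * g * y * g') ^ 24 = 1

theorem pow12 {G : Type*} [Group G] {x x3 x6 x12 : G} (h3 : x3 = x * x * x) (h6 : x6 = x3 * x3) (h12 : x12 = x6 * x6)
    (h : x12 = 1) : x ^ 24 = 1 := by
  have e : x ^ 12 = x12 := by
    rw [h12, h6, h3]; simp only [pow_succ, pow_zero, one_mul, mul_assoc]
  rw [show 24 = 12 * 2 from rfl, pow_mul, e, h, one_pow]

theorem pow8 {G : Type*} [Group G] {x x2 x4 x8 : G} (h2 : x2 = x * x) (h4 : x4 = x2 * x2) (h8 : x8 = x4 * x4)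
    (h : x8 = 1) : x ^ 24 = 1 := by
  have e : x ^ 8 = x8 := by
    rw [h8, h4, h2]; simp only [pow_succ, pow_zero, one_mul, mul_assoc]
  rw [show 24 = 8 * 3 from rfl, pow_mul, e, h, one_pow]

namespace DataB

open Cfsg.Agent.Lib.PackMat Cfsg.Agent.Lib.PackMatGroup Cfsg.Agent.Lib.PackMatMul Cfsg.Agent.HN.RepData
open Cfsg.Agent.HN.Rep (L LG gens rho)
open Cfsg.Agent.HN Cfsg.Agent.H536.T5.Prog

/-- the straight line program -/
def prog : List (ℕ × List ℕ) := [
  (4, [4]),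
  (5, [3, 5, 3, 3, 1, 3, 1, 3, 3, 5, 4, 2, 4, 4, 5]),
  (6, [5, 9, 5, 9, 5, 6, 8, 5, 5, 5, 6]),
  (1, [0, 1, 0, 6]),
  (4, [6, 8, 6, 4, 6, 6, 6, 5, 7, 7, 8, 6, 8, 4, 6, 8, 5]),
  (7, [7, 6, 7, 7, 5]),
  (6, [8, 6, 9, 9, 10, 8, 10, 6, 8]),
  (2, [7, 1, 8]),
  (0, [0, 0]),
  (0, [0]),
  (0, [0]),
  (6, [17, 4, 18]),
  (0, [0, 0]),
  (0, [0]),
  (0, [0]),
  (10, [19, 17, 11, 18, 19]),
  (0, [0]),
  (0, [0]),
  (0, [0]),
  (13, [19, 12, 20]),
  (0, [0, 0]),
  (0, [0]),
  (0, [0]),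
  (17, [23, 19, 24]),
  (0, [0]),
  (0, [0]),
  (0, [0]),
  (20, [30, 23, 29]),
  (0, [0, 0]),
  (0, [0]),
  (0, [0])]

/-- the equalities -/
def es : List (ℕ × ℕ) := [(20, 30), (16, 30), (12, 30), (8, 30), (4, 30), (0, 30)]

/-- the inequalities -/
def ns : List (ℕ × ℕ) := [(23, 30), (19, 30), (15, 30), (11, 30), (7, 30), (3, 30)]

/-- the first five steps -/
def P1 : List (ℕ × List ℕ) := [
  (4, [4]),
  (5, [3, 5, 3, 3, 1, 3, 1, 3, 3, 5, 4, 2, 4, 4, 5]),
  (6, [5, 9, 5, 9, 5, 6, 8, 5, 5, 5, 6]),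
  (1, [0, 1, 0, 6]),
  (4, [6, 8, 6, 4, 6, 6, 6, 5, 7, 7, 8, 6, 8, 4, 6, 8, 5])]

/-- the other steps -/
def P2 : List (ℕ × List ℕ) := [
  (7, [7, 6, 7, 7, 5]),
  (6, [8, 6, 9, 9, 10, 8, 10, 6, 8]),
  (2, [7, 1, 8]),
  (0, [0, 0]),
  (0, [0]),
  (0, [0]),
  (6, [17, 4, 18]),
  (0, [0, 0]),
  (0, [0]),
  (0, [0]),
  (10, [19, 17, 11, 18, 19]),
  (0, [0]),
  (0, [0]),
  (0, [0]),
  (13, [19, 12, 20]),
  (0, [0, 0]),
  (0, [0]),
  (0, [0]),
  (17, [23, 19, 24]),
  (0, [0]),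
  (0, [0]),
  (0, [0]),
  (20, [30, 23, 29]),
  (0, [0, 0]),
  (0, [0]),
  (0, [0])]

/-- the results of the first five steps (known from `DataA`) and the letters -/
def LB : List ℕ := [DataA.M94, DataA.M95, DataA.M97, DataA.M98, DataA.M99, X, XI, Y, YI, Z, Z, T, TI]

section base

variable {G : Type*} [Group G]

theorem run1 (LG : List G) : ∃ n4 z a r g2 g1 e : G,
    runG DataA.P1b (runG DataA.P1a LG) = n4 :: z :: a :: r :: g2 :: g1 :: e :: LG ∧
    runG P1 LG = z :: a :: g2 :: g1 :: e :: LG := by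
  refine ⟨_, _, _, _, _, _, _, rfl, ?_⟩
  simp only [P1, DataA.P1a, runG_cons, runG_nil, evG_cons, evG_nil, List.getD_cons_succ, List.getD_cons_zero]

theorem base_of {c93 c94 c95 c96 c97 c98 c99 : ℕ}
    (h : List.Forall₂ (CodesR C) (runG DataA.P1b (runG DataA.P1a LG))
      (c93 :: c94 :: c95 :: c96 :: c97 :: c98 :: c99 :: L)) :
    List.Forall₂ (CodesR C) (runG P1 LG) (c94 :: c95 :: c97 :: c98 :: c99 :: L) := by
  obtain ⟨n4, z, a, r, g2, g1, e, h1, h2⟩ := run1 LG
  rw [h1] at h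
  rw [h2]
  simp only [List.forall₂_cons] at h ⊢
  obtain ⟨-, k1, k2, -, k3, k4, k5, k6⟩ := h
  exact ⟨k1, k2, k3, k4, k5, k6⟩

theorem base : List.Forall₂ (CodesR C) (runG P1 LG) LB := base_of DataA.codes7

end base

theorem chk2 : checkS C P2 es ns LB = true := by decide +kernel

theorem prog_eq : prog = P1 ++ P2 := by decide

theorem sound : (∀ q ∈ es, (runG prog LG).getD q.1 1 = (runG prog LG).getD q.2 1) ∧
    (∀ q ∈ ns, (runG prog LG).getD q.1 1 ≠ (runG prog LG).getD q.2 1) := by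
  rw [prog_eq, Cut.runG_append]
  exact checkS_sound (good_of_check Rep.good) base chk2 (by decide)

/-- the results in the presented group -/
noncomputable def R (i : ℕ) : Cfsg.Spor.HN := (runG prog gens).getD i 1

theorem rho_R (i : ℕ) : rho (R i) = (runG prog LG).getD i 1 := by
  unfold R
  rw [← Rep.gens_map, runG_map, List.getD_eq_getElem?_getD, List.getD_eq_getElem?_getD, List.getElem?_map]
  cases (runG prog gens)[i]? with
  | none => simp
  | some b => simp

theorem mul_evG (g : Cfsg.Spor.HN) (w : List ℕ) :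
    g * evG (runG prog gens) w = w.foldl (fun g j => g * R j) g := by
  induction w generalizing g with
  | nil => rw [evG_nil, mul_one]; rfl
  | cons i w ih => rw [evG_cons, ← mul_assoc, ih]; rfl

/-- the steps -/
theorem st (k i : ℕ) (w : List ℕ) (hk : k < prog.length) (h : wordAt prog k = i :: w) :
    R k = w.foldl (fun g j => g * R j) (R i) := by
  rw [← mul_evG]
  exact runG_word prog gens hk h

/-- the words in the letters -/
theorem sw (k : ℕ) (w : List ℕ) (hk : k < prog.length) (h : wordAt prog k = w.map (· + 31)) : R k = V w := by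
  have e : R k = evG (runG prog gens) (w.map (· + 31)) := runG_word prog gens hk h
  rw [e, V]
  refine evG_shift (fun c => ?_) w
  rw [add_comm]
  exact runG_getD_add prog gens c

/-- the letters -/
theorem lt (k : ℕ) : R (31 + k) = gens.getD k 1 := runG_getD_add prog gens k


theorem eqn [IsSimpleGroup Cfsg.Spor.HN] (i j : ℕ) (h : (i, j) ∈ es) : R i = R j :=
  A12Group.rho_injective (by rw [rho_R, rho_R]; exact sound.1 (i, j) h)

theorem neq (i j : ℕ) (h : (i, j) ∈ ns) : R i ≠ R j := fun e =>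
  sound.2 (i, j) h (by rw [← rho_R, ← rho_R, e])

theorem v_id : R 30 = V [4, 4] := sw 30 [4, 4] (by decide) (by decide)
theorem v_G1 : R 29 = V g1w := sw 29 g1w (by decide) (by decide)
theorem v_G2 : R 28 = V g2w := sw 28 g2w (by decide) (by decide)
theorem v_w1 : R 26 = V zw := sw 26 zw (by decide) (by decide)
theorem v_w2 : R 25 = V w2w := sw 25 w2w (by decide) (by decide)
theorem v_w3 : R 24 = V w3w := sw 24 w3w (by decide) (by decide)
theorem s_a : R 27 = aa := by
  have e : R 27 = R 29 * R 28 * R 29 * R 28 * R 34 := st 27 29 [28, 29, 28, 34] (by decide) (by decide)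
  have e3 : R 34 = V [3] := by rw [lt 3]; exact (mul_one _).symm
  rw [e, v_G1, v_G2, e3]; rfl

theorem one : R 30 = 1 := by
  rw [v_id]
  change _ * (_ * 1) = 1
  rw [mul_one]; exact XWords.zz

theorem prd_w1_w2 [IsSimpleGroup Cfsg.Spor.HN] : Prd (V zw) (V w2w) := by
  have e : R 23 = R 26 * R 31 * R 25 * R 32 := st 23 26 [31, 25, 32] (by decide) (by decide)
  have hg : R 31 * (R 32) = 1 := by rw [lt 0, lt 1]; exact mul_inv_cancel _
  have e2 : V zw * (R 31) * V w2w * (R 32) = R 23 := by rw [← v_w1, ← v_w2, e]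
  refine ⟨R 31, R 32, hg, ?_, ?_⟩
  · rw [e2, ← one]; exact neq 23 30 (by decide)
  · have h3 : R 22 = R 23 * R 23 * R 23 := st 22 23 [23, 23] (by decide) (by decide)
    have h6 : R 21 = R 22 * R 22 := st 21 22 [22] (by decide) (by decide)
    have h12 : R 20 = R 21 * R 21 := st 20 21 [21] (by decide) (by decide)
    rw [e2]; exact pow12 h3 h6 h12 (by rw [eqn 20 30 (by decide), one])
theorem prd_w1_w3 [IsSimpleGroup Cfsg.Spor.HN] : Prd (V zw) (V w3w) := by
  have e : R 19 = R 26 * R 37 * R 24 * R 38 := st 19 26 [37, 24, 38] (by decide) (by decide)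
  have hg : R 37 * (R 38) = 1 := by rw [lt 6, lt 7]; exact mul_inv_cancel _
  have e2 : V zw * (R 37) * V w3w * (R 38) = R 19 := by rw [← v_w1, ← v_w3, e]
  refine ⟨R 37, R 38, hg, ?_, ?_⟩
  · rw [e2, ← one]; exact neq 19 30 (by decide)
  · have h3 : R 18 = R 19 * R 19 * R 19 := st 18 19 [19, 19] (by decide) (by decide)
    have h6 : R 17 = R 18 * R 18 := st 17 18 [18] (by decide) (by decide)
    have h12 : R 16 = R 17 * R 17 := st 16 17 [17] (by decide) (by decide)
    rw [e2]; exact pow12 h3 h6 h12 (by rw [eqn 16 30 (by decide), one])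
theorem prd_w1_a [IsSimpleGroup Cfsg.Spor.HN] : Prd (V zw) (aa) := by
  have e : R 15 = R 26 * R 35 * R 33 * R 27 * R 34 * R 35 := st 15 26 [35, 33, 27, 34, 35] (by decide) (by decide)
  have hg : R 35 * R 33 * (R 34 * R 35) = 1 := by
    rw [lt 4, lt 2, lt 3]
    change Rep.z * Rep.y * (Rep.y⁻¹ * Rep.z) = 1
    rw [mul_assoc, mul_inv_cancel_left]; exact XWords.zz
  have e2 : V zw * (R 35 * R 33) * aa * (R 34 * R 35) = R 15 := by
    rw [← v_w1, ← s_a, e]; simp only [mul_assoc]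
  refine ⟨R 35 * R 33, R 34 * R 35, hg, ?_, ?_⟩
  · rw [e2, ← one]; exact neq 15 30 (by decide)
  · have h3 : R 14 = R 15 * R 15 := st 14 15 [15] (by decide) (by decide)
    have h6 : R 13 = R 14 * R 14 := st 13 14 [14] (by decide) (by decide)
    have h12 : R 12 = R 13 * R 13 := st 12 13 [13] (by decide) (by decide)
    rw [e2]; exact pow8 h3 h6 h12 (by rw [eqn 12 30 (by decide), one])
theorem prd_w2_w3 [IsSimpleGroup Cfsg.Spor.HN] : Prd (V w2w) (V w3w) := by
  have e : R 11 = R 25 * R 31 * R 24 * R 32 := st 11 25 [31, 24, 32] (by decide) (by decide)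
  have hg : R 31 * (R 32) = 1 := by rw [lt 0, lt 1]; exact mul_inv_cancel _
  have e2 : V w2w * (R 31) * V w3w * (R 32) = R 11 := by rw [← v_w2, ← v_w3, e]
  refine ⟨R 31, R 32, hg, ?_, ?_⟩
  · rw [e2, ← one]; exact neq 11 30 (by decide)
  · have h3 : R 10 = R 11 * R 11 * R 11 := st 10 11 [11, 11] (by decide) (by decide)
    have h6 : R 9 = R 10 * R 10 := st 9 10 [10] (by decide) (by decide)
    have h12 : R 8 = R 9 * R 9 := st 8 9 [9] (by decide) (by decide)
    rw [e2]; exact pow12 h3 h6 h12 (by rw [eqn 8 30 (by decide), one])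
theorem prd_w2_a [IsSimpleGroup Cfsg.Spor.HN] : Prd (V w2w) (aa) := by
  have e : R 7 = R 25 * R 31 * R 27 * R 32 := st 7 25 [31, 27, 32] (by decide) (by decide)
  have hg : R 31 * (R 32) = 1 := by rw [lt 0, lt 1]; exact mul_inv_cancel _
  have e2 : V w2w * (R 31) * aa * (R 32) = R 7 := by rw [← v_w2, ← s_a, e]
  refine ⟨R 31, R 32, hg, ?_, ?_⟩
  · rw [e2, ← one]; exact neq 7 30 (by decide)
  · have h3 : R 6 = R 7 * R 7 := st 6 7 [7] (by decide) (by decide)
    have h6 : R 5 = R 6 * R 6 := st 5 6 [6] (by decide) (by decide)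
    have h12 : R 4 = R 5 * R 5 := st 4 5 [5] (by decide) (by decide)
    rw [e2]; exact pow8 h3 h6 h12 (by rw [eqn 4 30 (by decide), one])
theorem prd_w3_a [IsSimpleGroup Cfsg.Spor.HN] : Prd (V w3w) (aa) := by
  have e : R 3 = R 24 * R 34 * R 27 * R 33 := st 3 24 [34, 27, 33] (by decide) (by decide)
  have hg : R 34 * (R 33) = 1 := by rw [lt 3, lt 2]; exact inv_mul_cancel _
  have e2 : V w3w * (R 34) * aa * (R 33) = R 3 := by rw [← v_w3, ← s_a, e]
  refine ⟨R 34, R 33, hg, ?_, ?_⟩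
  · rw [e2, ← one]; exact neq 3 30 (by decide)
  · have h3 : R 2 = R 3 * R 3 * R 3 := st 2 3 [3, 3] (by decide) (by decide)
    have h6 : R 1 = R 2 * R 2 := st 1 2 [2] (by decide) (by decide)
    have h12 : R 0 = R 1 * R 1 := st 0 1 [1] (by decide) (by decide)
    rw [e2]; exact pow12 h3 h6 h12 (by rw [eqn 0 30 (by decide), one])

end DataB

namespace DataT

open Cfsg.Agent.Lib.PackMat Cfsg.Agent.Lib.PackMatGroup Cfsg.Agent.Lib.PackMatMul Cfsg.Agent.HN.RepData
open Cfsg.Agent.HN.Rep (L LG gens rho)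
open Cfsg.Agent.HN Cfsg.Agent.H536.T5.Prog

/-- the straight line program -/
def prog : List (ℕ × List ℕ) := [
  (4, [2, 4, 2, 2, 0, 2, 0, 2, 2, 4, 3, 1, 3, 3, 4]),
  (5, [4, 8, 4, 8, 4, 5, 7, 4, 4, 4, 5]),
  (1, [0, 1, 0, 5]),
  (3, [5, 7, 5, 3, 5, 5, 5, 4, 6, 6, 7, 5, 7, 3, 5, 7, 4]),
  (4, [6, 4, 7, 7, 8, 6, 8, 4, 6]),
  (2, [2]),
  (0, [3]),
  (1, [1]),
  (4, [4]),
  (0, [5]),
  (1, [1])]

/-- the traces -/
def ts : List (ℕ × ℕ) := [(6, 3), (7, 8), (2, 8), (1, 8), (0, 8), (8, 0), (5, 1), (4, 1), (3, 0)]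

theorem chk : checkT C prog ts L = true := by decide +kernel


/-- the results in the presented group -/
noncomputable def R (i : ℕ) : Cfsg.Spor.HN := (runG prog gens).getD i 1

theorem rho_R (i : ℕ) : rho (R i) = (runG prog LG).getD i 1 := by
  unfold R
  rw [← Rep.gens_map, runG_map, List.getD_eq_getElem?_getD, List.getD_eq_getElem?_getD, List.getElem?_map]
  cases (runG prog gens)[i]? with
  | none => simp
  | some b => simp

theorem mul_evG (g : Cfsg.Spor.HN) (w : List ℕ) :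
    g * evG (runG prog gens) w = w.foldl (fun g j => g * R j) g := by
  induction w generalizing g with
  | nil => rw [evG_nil, mul_one]; rfl
  | cons i w ih => rw [evG_cons, ← mul_assoc, ih]; rfl

/-- the steps -/
theorem st (k i : ℕ) (w : List ℕ) (hk : k < prog.length) (h : wordAt prog k = i :: w) :
    R k = w.foldl (fun g j => g * R j) (R i) := by
  rw [← mul_evG]
  exact runG_word prog gens hk h

/-- the words in the letters -/
theorem sw (k : ℕ) (w : List ℕ) (hk : k < prog.length) (h : wordAt prog k = w.map (· + 11)) : R k = V w := by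
  have e : R k = evG (runG prog gens) (w.map (· + 11)) := runG_word prog gens hk h
  rw [e, V]
  refine evG_shift (fun c => ?_) w
  rw [add_comm]
  exact runG_getD_add prog gens c

/-- the letters -/
theorem lt (k : ℕ) : R (11 + k) = gens.getD k 1 := runG_getD_add prog gens k


theorem trace (i v : ℕ) (h : (i, v) ∈ ts) : Matrix.trace ((rho (R i) : U C) : M C) = (v : ZMod C.p) := by
  rw [rho_R]
  exact checkT_sound (good_of_check Rep.good) A12Group.codesR chk (by decide) (i, v) h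

theorem v_G1 : R 10 = V g1w := sw 10 g1w (by decide) (by decide)
theorem v_G2 : R 9 = V g2w := sw 9 g2w (by decide) (by decide)
theorem v_w1 : R 7 = V zw := sw 7 zw (by decide) (by decide)
theorem v_w3 : R 6 = V w3w := sw 6 w3w (by decide) (by decide)
theorem s_a : R 8 = aa := by
  have e : R 8 = R 10 * R 9 * R 10 * R 9 * R 14 := st 8 10 [9, 10, 9, 14] (by decide) (by decide)
  have e3 : R 14 = V [3] := by rw [lt 3]; exact (mul_one _).symm
  rw [e, v_G1, v_G2, e3]; rfl
theorem s_a_2 : R 5 = (aa) ^ 2 := by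
  have e : R 5 = R 8 * R 8 := st 5 8 [8] (by decide) (by decide)
  rw [e, s_a, pow_two]
theorem s_a_3 : R 4 = (aa) ^ 3 := by
  have e : R 4 = R 5 * R 8 := st 4 5 [8] (by decide) (by decide)
  rw [e, s_a_2, s_a, ← pow_succ]
theorem s_a_4 : R 3 = (aa) ^ 4 := by
  have e : R 3 = R 5 * R 5 := st 3 5 [5] (by decide) (by decide)
  rw [e, s_a_2, ← pow_add]
theorem s_w1_2 : R 2 = (V zw) ^ 2 := by
  have e : R 2 = R 7 * R 7 := st 2 7 [7] (by decide) (by decide)
  rw [e, v_w1, pow_two]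
theorem s_w1_3 : R 1 = (V zw) ^ 3 := by
  have e : R 1 = R 2 * R 7 := st 1 2 [7] (by decide) (by decide)
  rw [e, s_w1_2, v_w1, ← pow_succ]
theorem s_w1_4 : R 0 = (V zw) ^ 4 := by
  have e : R 0 = R 2 * R 2 := st 0 2 [2] (by decide) (by decide)
  rw [e, s_w1_2, ← pow_add]

/-- the trace -/
noncomputable def tr (x : Cfsg.Spor.HN) : ZMod 31 := Matrix.trace ((rho x : U C) : M C)

theorem tr_w3 : tr (V w3w) = 3 := by rw [← v_w3]; exact trace 6 3 (by decide)
theorem tr_w1 : tr (V zw) = 8 := by rw [← v_w1]; exact trace 7 8 (by decide)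
theorem tr_w1_2 : tr (V zw ^ 2) = 8 := by rw [← s_w1_2]; exact trace 2 8 (by decide)
theorem tr_w1_3 : tr (V zw ^ 3) = 8 := by rw [← s_w1_3]; exact trace 1 8 (by decide)
theorem tr_w1_4 : tr (V zw ^ 4) = 8 := by rw [← s_w1_4]; exact trace 0 8 (by decide)
theorem tr_a : tr aa = 0 := by rw [← s_a]; exact trace 8 0 (by decide)
theorem tr_a_2 : tr (aa ^ 2) = 1 := by rw [← s_a_2]; exact (trace 5 1 (by decide)).trans (by norm_num)
theorem tr_a_3 : tr (aa ^ 3) = 1 := by rw [← s_a_3]; exact (trace 4 1 (by decide)).trans (by norm_num)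
theorem tr_a_4 : tr (aa ^ 4) = 0 := by rw [← s_a_4]; exact (trace 3 0 (by decide)).trans (by norm_num)

theorem tr_conj {x y : Cfsg.Spor.HN} (h : IsConj x y) : tr x = tr y := by
  obtain ⟨c, rfl⟩ := isConj_iff.1 h
  exact trace_conj (isConj_iff.2 ⟨rho c, by rw [map_mul, map_mul, map_inv]⟩)

end DataT


end Cfsg.Agent.H536.T5
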