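import Cfsg.Agent.H536.T5.Five

/-!
# The elements of order 5 of a group with a Sylow 5-subgroup `5^(1+4) : 5`: involutions (helper536)
-/

set_option autoImplicit false

namespace Cfsg.Agent.H536.T5.Five

open Subgroup

variable {G : Type*} [Group G]

/-- `x` commutes with an involution -/
def Inv (x : G) : Prop := ∃ s : G, s * s = 1 ∧ s ≠ 1 ∧ s * x = x * s

theorem Inv.conj {x : G} (g : G) (h : Inv x) : Inv (g * x * g⁻¹) := by
  obtain ⟨s, h1, h2, h3⟩ := h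
  refine ⟨g * s * g⁻¹, ?_, ?_, ?_⟩
  · calc g * s * g⁻¹ * (g * s * g⁻¹) = g * (s * s) * g⁻¹ := by group
      _ = 1 := by rw [h1]; group
  · intro h
    exact h2 (conj_eq_one_iff.1 h)
  · calc g * s * g⁻¹ * (g * x * g⁻¹) = g * (s * x) * g⁻¹ := by group
      _ = g * (x * s) * g⁻¹ := by rw [h3]
      _ = _ := by group

theorem Inv.of_conj {x : G} (g : G) (h : Inv (g * x * g⁻¹)) : Inv x := by
  have := h.conj g⁻¹
  have e : g⁻¹ * (g * x * g⁻¹) * g⁻¹⁻¹ = x := by group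
  rwa [e] at this

theorem Inv.pow {x : G} (h : Inv x) (n : ℕ) : Inv (x ^ n) := by
  obtain ⟨s, h1, h2, h3⟩ := h
  exact ⟨s, h1, h2, ((show Commute s x from h3).pow_right n).eq⟩

/-- the inverse of a number modulo 5 -/
theorem exists_inv5 {l : ℕ} (hl : l % 5 ≠ 0) : ∃ k : ℕ, l * k % 5 = 1 := by
  have : l % 5 = 1 ∨ l % 5 = 2 ∨ l % 5 = 3 ∨ l % 5 = 4 := by omega
  rcases this with h | h | h | h
  · exact ⟨1, by omega⟩
  · exact ⟨3, by omega⟩
  · exact ⟨2, by omega⟩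
  · exact ⟨4, by omega⟩

theorem Inv.of_pow {x : G} (hx : x ^ 5 = 1) {l : ℕ} (hl : l % 5 ≠ 0) (h : Inv (x ^ l)) : Inv x := by
  obtain ⟨k, hk⟩ := exists_inv5 hl
  have := h.pow k
  rw [← pow_mul, pow_eq_pow_mod _ hx, hk, pow_one] at this
  exact this

section data

variable {z n1 n2 n3 n4 a t W v u : G} (D : Dat z n1 n2 n3 n4 a t W v u)

include D

namespace Dat

variable (z) in
/-- the centralizer -/
abbrev C (z : G) : Subgroup G := centralizer ({z} : Set G)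

omit D in
theorem mem_C {z x : G} (h : z * x = x * z) : x ∈ C z := mem_centralizer_singleton_iff.2 h.symm

/-- the central subgroup -/
abbrev Z (z : G) : Subgroup (C z) := (zpowers z).subgroupOf (C z)

omit D in
instance Z_normal (z : G) : (Z z).Normal := by
  constructor
  rintro ⟨x, hx⟩ hxZ ⟨g, hg⟩
  rw [mem_subgroupOf] at hxZ ⊢
  obtain ⟨k, hk⟩ := mem_zpowers_iff.1 hxZ
  change z ^ k = x at hk
  have h1 : g * z = z * g := mem_centralizer_singleton_iff.1 hg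
  change g * x * g⁻¹ ∈ zpowers z
  rw [← hk, ((show Commute g z from h1).zpow_right k).eq, mul_inv_cancel_right]
  exact zpow_mem (mem_zpowers z) k

/-- the quotient -/
abbrev Q (z : G) := C z ⧸ Z z

/-- the projection -/
abbrev π (z : G) : C z →* Q z := QuotientGroup.mk' (Z z)

/-- the projection of an element commuting with `z` -/
def pr (z x : G) (h : z * x = x * z) : Q z := π z ⟨x, mem_C h⟩

/-- powers of `z` with natural exponents -/
theorem zpow_nat (k : ℤ) : ∃ m : ℕ, z ^ k = z ^ m := by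
  refine ⟨(k % 5).toNat, ?_⟩
  have h1 : (0 : ℤ) ≤ k % 5 := Int.emod_nonneg _ (by norm_num)
  have h2 : z ^ (k % 5) = z ^ k := by
    have h3 : k % 5 = k - 5 * (k / 5) := by omega
    have h4 : z ^ (5 : ℤ) = 1 := by exact_mod_cast D.z5
    rw [h3, zpow_sub, zpow_mul, h4, one_zpow, inv_one, mul_one]
  rw [← h2]
  conv_lhs => rw [← Int.toNat_of_nonneg h1]
  exact zpow_natCast z _

/-- equality in the quotient -/
theorem eq_iff {x y : C z} (h : π z x = π z y) : ∃ m : ℕ, (x : G) = y * z ^ m := by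
  have h1 : y⁻¹ * x ∈ Z z := by
    have h2 : π z (y⁻¹ * x) = 1 := by rw [map_mul, map_inv, h, inv_mul_cancel]
    exact (QuotientGroup.eq_one_iff _).1 h2
  rw [mem_subgroupOf] at h1
  obtain ⟨k, hk⟩ := mem_zpowers_iff.1 h1
  obtain ⟨m, hm⟩ := D.zpow_nat k
  refine ⟨m, ?_⟩
  rw [← hm, hk]
  change (x : G) = y * ((y : G)⁻¹ * x)
  group

omit D in
theorem pr_mul {x y : G} (hx : z * x = x * z) (hy : z * y = y * z) (hxy : z * (x * y) = x * y * z) :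
    pr z (x * y) hxy = pr z x hx * pr z y hy := rfl

omit D in
theorem π_z : π z ⟨z, mem_C rfl⟩ = 1 := by
  rw [QuotientGroup.mk'_apply, QuotientGroup.eq_one_iff, mem_subgroupOf]
  exact mem_zpowers z

/-- the property -/
def P (z : G) (q : Q z) : Prop := ∀ x : C z, π z x = q → (x : G) ^ 5 = 1 → Inv (x : G)

omit D in
theorem P_conj {q : Q z} (c : C z) (h : P z (π z c * q * (π z c)⁻¹)) : P z q := by
  intro x hx hx5
  refine Inv.of_conj (c : G) (h (c * x * c⁻¹) ?_ ?_)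
  · rw [map_mul, map_mul, map_inv, hx]
  · have e : ((c * x * c⁻¹ : C z) : G) = c * x * (c : G)⁻¹ := rfl
    rw [e, conj_pow, hx5, mul_one, mul_inv_cancel]

omit D in
theorem P_pow {q : Q z} {l : ℕ} (hl : l % 5 ≠ 0) (h : P z (q ^ l)) : P z q := by
  intro x hx hx5
  refine Inv.of_pow hx5 hl (h (x ^ l) (by rw [map_pow, hx]) ?_)
  change ((x : G) ^ l) ^ 5 = 1
  rw [← pow_mul, mul_comm, pow_mul, hx5, one_pow]

/-- lifts of an element all of whose lifts are conjugate -/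
theorem P_lift {y c : G} {d : ℕ} (hy : z * y = y * z) (hc : c * y * c⁻¹ = y * z ^ d) (hcz : c * z = z * c)
    (hd : d % 5 ≠ 0) (h : Inv y) : P z (π z ⟨y, mem_C hy⟩) := by
  intro x hx _
  obtain ⟨m, hm⟩ := D.eq_iff hx
  obtain ⟨k, hk⟩ := exists_inv5 hd
  have key : ∀ j : ℕ, c ^ j * y * (c ^ j)⁻¹ = y * z ^ (d * j) := by
    intro j
    induction j with
    | zero => simp
    | succ j ih =>
      have h1 : c * z ^ (d * j) * c⁻¹ = z ^ (d * j) := by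
        rw [((show Commute c z from hcz).pow_right _).eq, mul_inv_cancel_right]
      calc c ^ (j + 1) * y * (c ^ (j + 1))⁻¹ = c * (c ^ j * y * (c ^ j)⁻¹) * c⁻¹ := by
            rw [pow_succ']; group
        _ = c * y * c⁻¹ * (c * z ^ (d * j) * c⁻¹) := by rw [ih]; group
        _ = y * z ^ (d * (j + 1)) := by
            rw [hc, h1, mul_assoc, ← pow_add]
            congr 2
            ring
  have e : (x : G) = c ^ (k * m) * y * (c ^ (k * m))⁻¹ := by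
    rw [key, hm]
    congr 1
    rw [pow_eq_pow_mod m D.z5, pow_eq_pow_mod (d * (k * m)) D.z5]
    congr 1
    rw [← mul_assoc, Nat.mul_mod, hk, one_mul, Nat.mod_mod]
  rw [e]
  exact h.conj _

omit D in
theorem π_eq {x y : C z} {k : ℕ} (h : (x : G) = z ^ k * y) : π z x = π z y := by
  have e : x = (⟨z, mem_C rfl⟩ : C z) ^ k * y := Subtype.ext h
  rw [e, map_mul, map_pow, π_z, one_pow, one_mul]

/-- the images of the generators -/
def m1 : Q z := π z ⟨n1, mem_C D.zn1⟩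
def m2 : Q z := π z ⟨n2, mem_C D.zn2⟩
def m3 : Q z := π z ⟨n3, mem_C D.zn3⟩
def m4 : Q z := π z ⟨n4, mem_C D.zn4⟩
def A : Q z := π z ⟨a, mem_C D.za⟩
def T : Q z := π z ⟨t, mem_C D.zt⟩

omit D in
theorem comm_of {x y : G} (hx : z * x = x * z) (hy : z * y = y * z) (k : ℕ) (h : x * y = z ^ k * y * x) :
    Commute (π z ⟨x, mem_C hx⟩) (π z ⟨y, mem_C hy⟩) := by
  have h1 := π_eq (z := z) (x := ⟨x, mem_C hx⟩ * ⟨y, mem_C hy⟩) (y := ⟨y, mem_C hy⟩ * ⟨x, mem_C hx⟩) (k := k) (by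
    change x * y = z ^ k * (y * x)
    rw [h, mul_assoc])
  rw [map_mul, map_mul] at h1
  exact h1

theorem com : Com D.m1 D.m2 D.m3 D.m4 where
  c12 := comm_of D.zn1 D.zn2 0 (by rw [pow_zero, one_mul]; exact D.n12)
  c13 := comm_of D.zn1 D.zn3 0 (by rw [pow_zero, one_mul]; exact D.n13)
  c14 := comm_of D.zn1 D.zn4 2 D.n14
  c23 := comm_of D.zn2 D.zn3 3 D.n23
  c24 := comm_of D.zn2 D.zn4 2 D.n24
  c34 := comm_of D.zn3 D.zn4 0 (by rw [pow_zero, one_mul]; exact D.n34)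
  f1 := by
    rw [m1, ← map_pow, ← map_one (π z)]
    exact congrArg (π z) (Subtype.ext D.p1)
  f2 := by
    rw [m2, ← map_pow, ← map_one (π z)]
    exact congrArg (π z) (Subtype.ext D.p2)
  f3 := by
    rw [m3, ← map_pow, ← map_one (π z)]
    exact congrArg (π z) (Subtype.ext D.p3)
  f4 := by
    rw [m4, ← map_pow, ← map_one (π z)]
    exact congrArg (π z) (Subtype.ext D.p4)

theorem A5 : D.A ^ 5 = 1 := by
  rw [A, ← map_pow, ← map_one (π z)]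
  exact congrArg (π z) (Subtype.ext D.a5)

theorem Am1 : D.A * D.m1 * D.A⁻¹ = D.m1 := by
  rw [mul_inv_eq_iff_eq_mul]
  exact congrArg (π z) (a₁ := ⟨a, mem_C D.za⟩ * ⟨n1, mem_C D.zn1⟩) (a₂ := ⟨n1, mem_C D.zn1⟩ * ⟨a, mem_C D.za⟩)
    (Subtype.ext D.an1)

theorem Am2 : D.A * D.m2 * D.A⁻¹ = D.m1 * D.m2 := by
  rw [mul_inv_eq_iff_eq_mul]
  exact congrArg (π z) (a₁ := ⟨a, mem_C D.za⟩ * ⟨n2, mem_C D.zn2⟩)
    (a₂ := ⟨n1, mem_C D.zn1⟩ * ⟨n2, mem_C D.zn2⟩ * ⟨a, mem_C D.za⟩) (Subtype.ext D.an2)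

theorem Am3 : D.A * D.m3 * D.A⁻¹ = D.m2 * D.m3 := by
  rw [mul_inv_eq_iff_eq_mul]
  exact congrArg (π z) (a₁ := ⟨a, mem_C D.za⟩ * ⟨n3, mem_C D.zn3⟩)
    (a₂ := ⟨n2, mem_C D.zn2⟩ * ⟨n3, mem_C D.zn3⟩ * ⟨a, mem_C D.za⟩) (Subtype.ext D.an3)

theorem Am4 : D.A * D.m4 * D.A⁻¹ = D.m3 * D.m4 := by
  rw [mul_inv_eq_iff_eq_mul]
  exact congrArg (π z) (a₁ := ⟨a, mem_C D.za⟩ * ⟨n4, mem_C D.zn4⟩)
    (a₂ := ⟨n3, mem_C D.zn3⟩ * ⟨n4, mem_C D.zn4⟩ * ⟨a, mem_C D.za⟩) (Subtype.ext D.an4)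

theorem Tm1 : D.T * D.m1 * D.T⁻¹ = D.m2 * D.m3 ^ 4 := by
  rw [mul_inv_eq_iff_eq_mul]
  refine π_eq (x := ⟨t, mem_C D.zt⟩ * ⟨n1, mem_C D.zn1⟩)
    (y := ⟨n2, mem_C D.zn2⟩ * ⟨n3, mem_C D.zn3⟩ ^ 4 * ⟨t, mem_C D.zt⟩) (k := 3) ?_
  change t * n1 = z ^ 3 * (n2 * n3 ^ 4 * t)
  have h : Commute (z ^ 3) (n2 * n3 ^ 4) :=
    ((show Commute z n2 from D.zn2).pow_left 3).mul_right ((show Commute z n3 from D.zn3).pow_pow 3 4)
  rw [D.tn1, ← mul_assoc, h.eq]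

theorem Tm2 : D.T * D.m2 * D.T⁻¹ = D.m1 * D.m3 ^ 4 * D.m4 ^ 4 := by
  rw [mul_inv_eq_iff_eq_mul]
  refine π_eq (x := ⟨t, mem_C D.zt⟩ * ⟨n2, mem_C D.zn2⟩)
    (y := ⟨n1, mem_C D.zn1⟩ * ⟨n3, mem_C D.zn3⟩ ^ 4 * ⟨n4, mem_C D.zn4⟩ ^ 4 * ⟨t, mem_C D.zt⟩) (k := 4) ?_
  change t * n2 = z ^ 4 * (n1 * n3 ^ 4 * n4 ^ 4 * t)
  have h : Commute (z ^ 4) (n1 * n3 ^ 4 * n4 ^ 4) :=
    (((show Commute z n1 from D.zn1).pow_left 4).mul_right ((show Commute z n3 from D.zn3).pow_pow 4 4)).mul_right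
      ((show Commute z n4 from D.zn4).pow_pow 4 4)
  rw [D.tn2, ← mul_assoc, h.eq]

theorem Tm3 : D.T * D.m3 * D.T⁻¹ = D.m3 ^ 4 * D.m4 ^ 4 := by
  rw [mul_inv_eq_iff_eq_mul]
  refine π_eq (x := ⟨t, mem_C D.zt⟩ * ⟨n3, mem_C D.zn3⟩)
    (y := ⟨n3, mem_C D.zn3⟩ ^ 4 * ⟨n4, mem_C D.zn4⟩ ^ 4 * ⟨t, mem_C D.zt⟩) (k := 2) ?_
  change t * n3 = z ^ 2 * (n3 ^ 4 * n4 ^ 4 * t)
  have h : Commute (z ^ 2) (n3 ^ 4 * n4 ^ 4) :=
    ((show Commute z n3 from D.zn3).pow_pow 2 4).mul_right ((show Commute z n4 from D.zn4).pow_pow 2 4)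
  rw [D.tn3, ← mul_assoc, h.eq]

theorem Tm4 : D.T * D.m4 * D.T⁻¹ = D.m4 := by
  rw [mul_inv_eq_iff_eq_mul]
  exact congrArg (π z) (a₁ := ⟨t, mem_C D.zt⟩ * ⟨n4, mem_C D.zn4⟩)
    (a₂ := ⟨n4, mem_C D.zn4⟩ * ⟨t, mem_C D.zt⟩) (Subtype.ext D.tn4)

/-- the elements of the normal subgroup -/
def e (v : ℕ × ℕ × ℕ × ℕ) : Q z := E D.m1 D.m2 D.m3 D.m4 v

theorem e_fa (v : ℕ × ℕ × ℕ × ℕ) : D.A * D.e v * D.A⁻¹ = D.e (fa v) := E_fa D.com D.Am1 D.Am2 D.Am3 D.Am4 v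

theorem e_ft (v : ℕ × ℕ × ℕ × ℕ) : D.T * D.e v * D.T⁻¹ = D.e (ft v) := E_ft D.com D.Tm1 D.Tm2 D.Tm3 D.Tm4 v

theorem P_step {v : ℕ × ℕ × ℕ × ℕ} (h : P z (D.e (step v))) : P z (D.e v) := by
  unfold step at h
  split at h
  · exact P_conj ⟨a, mem_C D.za⟩ (by
      have := D.e_fa v
      rw [← this] at h
      exact h)
  · exact P_conj ⟨t, mem_C D.zt⟩ (by
      have := D.e_ft v
      rw [← this] at h
      exact h)
  · refine P_pow (l := 2) (by norm_num) ?_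
    rw [e, E_fs D.com]
    exact h
  · exact h

theorem P_steps {n : ℕ} {v : ℕ × ℕ × ℕ × ℕ} (h : P z (D.e (steps n v))) : P z (D.e v) := by
  induction n generalizing v with
  | zero => exact h
  | succ n ih => exact D.P_step (ih h)

/-- elements fixed by `t` -/
theorem P_t {q : Q z} (h : D.T * q * D.T⁻¹ = q) : P z q := by
  intro x hx _
  have h1 : π z (⟨t, mem_C D.zt⟩ * x * ⟨t, mem_C D.zt⟩⁻¹) = π z x := by
    rw [map_mul, map_mul, map_inv, hx]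
    exact h
  obtain ⟨m, hm⟩ := D.eq_iff h1
  have hm' : t * (x : G) * t⁻¹ = x * z ^ m := hm
  have ht : t⁻¹ = t := inv_eq_of_mul_eq_one_right D.t2
  have htz : t * z ^ m * t⁻¹ = z ^ m := by
    rw [((show Commute z t from D.zt).symm.pow_right m).eq, mul_inv_cancel_right]
  have h2 : (x : G) = x * z ^ m * z ^ m := by
    calc (x : G) = (t * t) * x * (t * t)⁻¹ := by rw [D.t2]; group
      _ = t * (t * x * t⁻¹) * t⁻¹ := by group
      _ = t * (x * z ^ m) * t⁻¹ := by rw [hm']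
      _ = (t * x * t⁻¹) * (t * z ^ m * t⁻¹) := by group
      _ = x * z ^ m * z ^ m := by rw [hm', htz]
  have h3 : z ^ (2 * m) = 1 := by
    rw [mul_assoc, ← pow_add] at h2
    have := mul_eq_left.1 h2.symm
    rw [two_mul]
    exact this
  have h4 : z ^ m = 1 := by
    have h5 : z ^ (3 * (2 * m)) = 1 := by rw [mul_comm, pow_mul, h3, one_pow]
    rw [pow_eq_pow_mod _ D.z5] at h5
    rw [pow_eq_pow_mod _ D.z5]
    have : 3 * (2 * m) % 5 = m % 5 := by omega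
    rwa [this] at h5
  refine ⟨t, D.t2, D.t1, ?_⟩
  rw [h4, mul_one, mul_inv_eq_iff_eq_mul] at hm'
  exact hm'

theorem P_one : P z (1 : Q z) := by
  intro x hx _
  obtain ⟨m, hm⟩ := D.eq_iff (x := x) (y := 1) (by rw [hx, map_one])
  have hm' : (x : G) = z ^ m := by rw [hm]; exact one_mul _
  rw [hm']
  exact ⟨W, D.W2, D.W1, ((show Commute W z from D.Wz).pow_right m).eq⟩

theorem P_n1 : P z (D.e (1, 0, 0, 0)) := by
  have h := D.P_lift (y := n1) (c := n4) (d := 3) D.zn1 ?_ D.zn4.symm (by norm_num) ⟨v, D.v2, D.v1, D.vn1⟩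
  · have e1 : D.e (1, 0, 0, 0) = D.m1 := by simp [e, E]
    rw [e1]
    exact h
  · -- `n4 n1 n4⁻¹ = n1 z ^ 3`
    rw [mul_inv_eq_iff_eq_mul]
    have hz : Commute (z ^ 3) n4 := (show Commute z n4 from D.zn4).pow_left 3
    have e2 : n1 * z ^ 3 * n4 = z ^ 3 * (n1 * n4) := by
      have hz1 : Commute (z ^ 3) n1 := (show Commute z n1 from D.zn1).pow_left 3
      rw [← mul_assoc, hz1.eq]
    rw [e2, D.n14]
    calc n4 * n1 = z ^ 5 * (n4 * n1) := by rw [D.z5, one_mul]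
      _ = z ^ 3 * (z ^ 2 * n4 * n1) := by rw [show 5 = 3 + 2 from rfl, pow_add]; group

theorem P_n12 : P z (D.e (1, 1, 0, 0)) := by
  have hzy : z * (n1 * n2 * z ^ 4) = n1 * n2 * z ^ 4 * z :=
    (((show Commute z n1 from D.zn1).mul_right (show Commute z n2 from D.zn2)).mul_right
      ((Commute.refl z).pow_right 4)).eq
  have h := D.P_lift (y := n1 * n2 * z ^ 4) (c := n4) (d := 1) hzy ?_ D.zn4.symm (by norm_num)
    ⟨u, D.u2, D.u1, D.uy⟩
  · have e1 : D.e (1, 1, 0, 0) = D.m1 * D.m2 := by simp [e, E]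
    have e2 : π z ⟨n1 * n2 * z ^ 4, mem_C hzy⟩ = D.m1 * D.m2 := by
      refine (π_eq (x := ⟨n1 * n2 * z ^ 4, mem_C hzy⟩) (y := ⟨n1, mem_C D.zn1⟩ * ⟨n2, mem_C D.zn2⟩) (k := 4) ?_).trans
        rfl
      change n1 * n2 * z ^ 4 = z ^ 4 * (n1 * n2)
      have hz : Commute (z ^ 4) (n1 * n2) :=
        ((show Commute z n1 from D.zn1).mul_right (show Commute z n2 from D.zn2)).pow_left 4
      exact hz.eq.symm
    rw [e1, ← e2]
    exact h
  · -- conjugation by `n4`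
    have h1 : n4 * n1 * n4⁻¹ = z ^ 3 * n1 := by
      rw [mul_inv_eq_iff_eq_mul, mul_assoc, D.n14]
      calc n4 * n1 = z ^ 5 * (n4 * n1) := by rw [D.z5, one_mul]
        _ = z ^ 3 * (z ^ 2 * n4 * n1) := by rw [show 5 = 3 + 2 from rfl, pow_add]; group
    have h2 : n4 * n2 * n4⁻¹ = z ^ 3 * n2 := by
      rw [mul_inv_eq_iff_eq_mul, mul_assoc, D.n24]
      calc n4 * n2 = z ^ 5 * (n4 * n2) := by rw [D.z5, one_mul]
        _ = z ^ 3 * (z ^ 2 * n4 * n2) := by rw [show 5 = 3 + 2 from rfl, pow_add]; group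
    have h3 : n4 * z ^ 4 * n4⁻¹ = z ^ 4 := by
      rw [((show Commute z n4 from D.zn4).symm.pow_right 4).eq, mul_inv_cancel_right]
    have hz1 : Commute n1 (z ^ 3) := ((show Commute z n1 from D.zn1).pow_left 3).symm
    have hz2 : Commute (z ^ 6) (n1 * n2 * z ^ 4) := (show Commute z (n1 * n2 * z ^ 4) from hzy).pow_left 6
    calc n4 * (n1 * n2 * z ^ 4) * n4⁻¹ = (n4 * n1 * n4⁻¹) * (n4 * n2 * n4⁻¹) * (n4 * z ^ 4 * n4⁻¹) := by group
      _ = z ^ 3 * (n1 * z ^ 3) * n2 * z ^ 4 := by rw [h1, h2, h3]; group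
      _ = z ^ 3 * (z ^ 3 * n1) * n2 * z ^ 4 := by rw [hz1.eq]
      _ = z ^ 6 * (n1 * n2 * z ^ 4) := by rw [show 6 = 3 + 3 from rfl, pow_add]; group
      _ = n1 * n2 * z ^ 4 * z ^ 1 := by
          rw [hz2.eq, show 6 = 5 + 1 from rfl, pow_add z 5 1, D.z5, one_mul]

theorem P_fin {v : ℕ × ℕ × ℕ × ℕ} (h : fin v = true) : P z (D.e v) := by
  unfold fin at h
  rw [Bool.or_eq_true, Bool.or_eq_true, beq_iff_eq, beq_iff_eq, beq_iff_eq] at h
  rcases h with (h | rfl) | rfl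
  · exact D.P_t (by rw [D.e_ft, h])
  · exact D.P_n1
  · exact D.P_n12

theorem e_mod {i j k l i' j' k' l' : ℕ} (hi : i % 5 = i' % 5) (hj : j % 5 = j' % 5)
    (hk : k % 5 = k' % 5) (hl : l % 5 = l' % 5) : D.e (i, j, k, l) = D.e (i', j', k', l') :=
  E_mod D.com hi hj hk hl

theorem P_e (w : ℕ × ℕ × ℕ × ℕ) : P z (D.e w) := by
  obtain ⟨i, j, k, l⟩ := w
  rw [D.e_mod (i' := i % 5) (j' := j % 5) (k' := k % 5) (l' := l % 5) (by simp) (by simp) (by simp) (by simp)]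
  have hi : i % 5 < 5 := Nat.mod_lt _ (by norm_num)
  have hj : j % 5 < 5 := Nat.mod_lt _ (by norm_num)
  have hk : k % 5 < 5 := Nat.mod_lt _ (by norm_num)
  have hl : l % 5 < 5 := Nat.mod_lt _ (by norm_num)
  by_cases h0 : i % 5 = 0 ∧ j % 5 = 0 ∧ k % 5 = 0 ∧ l % 5 = 0
  · obtain ⟨h1, h2, h3, h4⟩ := h0
    rw [h1, h2, h3, h4, e, E_zero]
    exact D.P_one
  · exact D.P_steps (D.P_fin (chk' hi hj hk hl h0))

theorem e_mul (v w : ℕ × ℕ × ℕ × ℕ) : D.e v * D.e w = D.e (add v w) := E_mul D.com v w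

/-- `A` as a left factor -/
theorem A_e (v : ℕ × ℕ × ℕ × ℕ) : D.A * D.e v = D.e (fa v) * D.A := by
  rw [← D.e_fa v, inv_mul_cancel_right]

theorem exists_A_pow_e (l : ℕ) (v : ℕ × ℕ × ℕ × ℕ) : ∃ w, D.A ^ l * D.e v = D.e w * D.A ^ l := by
  induction l generalizing v with
  | zero => exact ⟨v, by simp⟩
  | succ l ih =>
    obtain ⟨w, hw⟩ := ih (fa v)
    exact ⟨w, by rw [pow_succ, mul_assoc, A_e, ← mul_assoc, hw, mul_assoc]⟩

/-- the case of `e w * A` -/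
theorem P_eA (w : ℕ × ℕ × ℕ × ℕ) : P z (D.e w * D.A) := by
  obtain ⟨i, j, k, l⟩ := w
  -- conjugate by `e (0, i, j, k)`
  obtain ⟨c, hc⟩ := QuotientGroup.mk'_surjective (Z z) (D.e (0, i, j, k))
  refine P_conj c ?_
  have h1 : D.e (0, i, j, k) * (D.e (i, j, k, l) * D.A) = D.e (0, 0, 0, l) * D.A * D.e (0, i, j, k) := by
    rw [← mul_assoc, D.e_mul, mul_assoc, A_e, ← mul_assoc, D.e_mul]
    congr 1
    simp only [add, fa]
    apply D.e_mod <;> omega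
  change P z (π z c * (D.e (i, j, k, l) * D.A) * (π z c)⁻¹)
  have hc' : π z c = D.e (0, i, j, k) := hc
  rw [hc', h1, mul_inv_cancel_right]
  -- the element `n4 ^ l * a`
  rw [D.e_mod (i' := 0) (j' := 0) (k' := 0) (l' := l % 5) rfl rfl rfl (by simp)]
  have hl : l % 5 = 0 ∨ l % 5 = 1 ∨ l % 5 = 2 ∨ l % 5 = 3 ∨ l % 5 = 4 := by omega
  have key : ∀ n : ℕ, (n4 ^ n * a) ^ 5 ≠ 1 → P z (D.e (0, 0, 0, n) * D.A) := by
    intro n hn x hx hx5
    exfalso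
    apply hn
    have hzn : z * (n4 ^ n * a) = n4 ^ n * a * z :=
      (((show Commute z n4 from D.zn4).pow_right n).mul_right (show Commute z a from D.za)).eq
    obtain ⟨m, hm⟩ := D.eq_iff (x := x) (y := ⟨n4 ^ n * a, mem_C hzn⟩) (by
      rw [hx]
      have e1 : D.e (0, 0, 0, n) = D.m4 ^ n := by simp [e, E]
      rw [e1]
      rfl)
    have hm' : (x : G) = n4 ^ n * a * z ^ m := hm
    rw [hm', ((show Commute z (n4 ^ n * a) from hzn).symm.pow_right m).mul_pow, ← pow_mul, mul_comm m, pow_mul, D.z5,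
      one_pow, mul_one] at hx5
    exact hx5
  rcases hl with h | h | h | h | h
  · rw [h]
    intro x hx _
    obtain ⟨m, hm⟩ := D.eq_iff (x := x) (y := ⟨a, mem_C D.za⟩) (by
      rw [hx, e, E_zero, one_mul]
      rfl)
    have hm' : (x : G) = a * z ^ m := hm
    rw [hm']
    exact ⟨W, D.W2, D.W1, ((show Commute W a from D.Wa).mul_right ((show Commute W z from D.Wz).pow_right m)).eq⟩
  · rw [h]; exact key 1 D.q1
  · rw [h]; exact key 2 D.q2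
  · rw [h]; exact key 3 D.q3
  · rw [h]; exact key 4 D.q4

theorem exists_pow_eA (w : ℕ × ℕ × ℕ × ℕ) (l k : ℕ) : ∃ w', (D.e w * D.A ^ l) ^ k = D.e w' * D.A ^ (l * k) := by
  induction k with
  | zero => exact ⟨(0, 0, 0, 0), by rw [pow_zero, mul_zero, pow_zero, mul_one, e, E_zero]⟩
  | succ k ih =>
    obtain ⟨w', hw⟩ := ih
    obtain ⟨w'', hw'⟩ := D.exists_A_pow_e (l * k) w
    refine ⟨add w' w'', ?_⟩
    rw [pow_succ, hw, ← mul_assoc, mul_assoc (D.e w'), hw', ← mul_assoc, D.e_mul, mul_assoc, ← pow_add]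
    rfl

theorem P_all (w : ℕ × ℕ × ℕ × ℕ) (l : ℕ) : P z (D.e w * D.A ^ l) := by
  by_cases hl : l % 5 = 0
  · rw [pow_eq_pow_mod l D.A5, hl, pow_zero, mul_one]
    exact D.P_e w
  · obtain ⟨k, hk⟩ := exists_inv5 hl
    have hk0 : k % 5 ≠ 0 := by
      intro h
      rw [Nat.mul_mod, h, mul_zero, Nat.zero_mod] at hk
      exact absurd hk (by norm_num)
    refine P_pow (l := k) hk0 ?_
    obtain ⟨w', hw⟩ := D.exists_pow_eA w l k
    rw [hw, pow_eq_pow_mod (l * k) D.A5, hk, pow_one]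
    exact D.P_eA w'

end Dat

end data

end Cfsg.Agent.H536.T5.Five
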