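import Cfsg.Agent.Lib.PackMatMul

/-!
# Straight line programs of packed matrices: the results in terms of each other; traces (helper536)
-/

set_option autoImplicit false

namespace Cfsg.Agent.H536.T5.Prog

open Cfsg.Agent.Lib.PackMat Cfsg.Agent.Lib.PackMatGroup Cfsg.Agent.Lib.PackMatMul

/-! ### The results of a straight line program -/

section results

variable {G : Type*} [Group G]

theorem runG_length (ws : List (ℕ × List ℕ)) (LG : List G) : (runG ws LG).length = ws.length + LG.length := by
  induction ws generalizing LG with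
  | nil => simp [runG_nil]
  | cons w ws ih => rw [runG_cons, ih]; simp; omega

theorem runG_getD_add (ws : List (ℕ × List ℕ)) (LG : List G) (k : ℕ) :
    (runG ws LG).getD (ws.length + k) 1 = LG.getD k 1 := by
  induction ws generalizing LG k with
  | nil => simp [runG_nil]
  | cons w ws ih =>
    rw [runG_cons, List.length_cons, show ws.length + 1 + k = ws.length + (k + 1) by omega, ih]
    rfl

/-- The word of the result `k`, in terms of the final list. -/
def wordAt (ws : List (ℕ × List ℕ)) (k : ℕ) : List ℕ :=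
  ((ws.getD (ws.length - 1 - k) (0, [])).1 :: (ws.getD (ws.length - 1 - k) (0, [])).2).map (· + (k + 1))

theorem evG_shift {LG F : List G} {n : ℕ} (h : ∀ c, F.getD (c + n) 1 = LG.getD c 1) (w : List ℕ) :
    evG F (w.map (· + n)) = evG LG w := by
  induction w with
  | nil => rfl
  | cons c w ih => rw [List.map_cons, evG_cons, evG_cons, ih, h]

theorem runG_eq (ws : List (ℕ × List ℕ)) (LG : List G) {k : ℕ} (hk : k < ws.length) :
    (runG ws LG).getD k 1 = evG (runG ws LG) (wordAt ws k) := by
  induction ws generalizing LG with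
  | nil => simp at hk
  | cons w ws ih =>
    rw [runG_cons]
    rcases Nat.lt_or_ge k ws.length with h | h
    · rw [ih _ h]
      congr 1
      unfold wordAt
      have e : (w :: ws).length - 1 - k = (ws.length - 1 - k) + 1 := by
        rw [List.length_cons]; omega
      rw [e, List.getD_cons_succ]
    · have e : k = ws.length := by
        rw [List.length_cons] at hk; omega
      subst e
      have e1 := runG_getD_add ws (evG LG (w.1 :: w.2) :: LG) 0
      rw [Nat.add_zero] at e1
      rw [e1, List.getD_cons_zero]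
      unfold wordAt
      have e2 : (w :: ws).length - 1 - ws.length = 0 := by rw [List.length_cons]; omega
      rw [e2, List.getD_cons_zero]
      rw [evG_shift (LG := LG)]
      intro c
      have e3 := runG_getD_add ws (evG LG (w.1 :: w.2) :: LG) (c + 1)
      rw [List.getD_cons_succ] at e3
      rw [← e3]
      congr 1
      omega

/-- The result `k`. -/
theorem runG_word (ws : List (ℕ × List ℕ)) (LG : List G) {k : ℕ} {w : List ℕ} (hk : k < ws.length)
    (hw : wordAt ws k = w) : (runG ws LG).getD k 1 = evG (runG ws LG) w := by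
  subst hw; exact runG_eq ws LG hk

end results

/-! ### Traces -/

/-- sum of the digits number `0, st / s, 2 st / s, …` -/
noncomputable def trK (s st cnt : ℕ) : ℕ → ℕ → ℕ :=
  Nat.rec (motive := fun _ => ℕ → ℕ → ℕ) (fun _ acc => acc)
    (fun _ ih A acc => force (Nat.shiftRight A st) fun A' =>
      force (Nat.add acc (Nat.mod A (Nat.pow 2 s))) fun acc' => ih A' acc') cnt

theorem trK_spec (s st : ℕ) : ∀ (cnt A acc : ℕ),
    trK s st cnt A acc = acc + ∑ i ∈ Finset.range cnt, A / 2 ^ (st * i) % 2 ^ s := by
  intro cnt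
  induction cnt with
  | zero => intro A acc; simp [trK]
  | succ cnt ih =>
    intro A acc
    have e : trK s st (cnt + 1) A acc = trK s st cnt (Nat.shiftRight A st) (Nat.add acc (Nat.mod A (Nat.pow 2 s))) :=
      rfl
    rw [e, ih, Finset.sum_range_succ' (fun i => A / 2 ^ (st * i) % 2 ^ s)]
    have e1 : Nat.shiftRight A st = A / 2 ^ st := Nat.shiftRight_eq_div_pow A st
    have e2 : Nat.add acc (Nat.mod A (Nat.pow 2 s)) = acc + A % 2 ^ s := rfl
    rw [e1, e2, Nat.mul_zero, pow_zero, Nat.div_one]
    have e3 : ∀ i, A / 2 ^ st / 2 ^ (st * i) = A / 2 ^ (st * (i + 1)) := by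
      intro i
      rw [Nat.div_div_eq_div_mul, ← pow_add]
      congr 2
      ring
    simp only [e3]
    ring

variable {C : Cfg}

/-- the trace of a packed matrix -/
theorem trace_mat (A : ℕ) : Matrix.trace (mat C A) = ((trK C.s (C.s * (C.n + 1)) C.n A 0 : ℕ) : ZMod C.p) := by
  rw [trK_spec, Nat.zero_add, Nat.cast_sum, Matrix.trace, ← Fin.sum_univ_eq_sum_range
    (fun i => ((A / 2 ^ (C.s * (C.n + 1) * i) % 2 ^ C.s : ℕ) : ZMod C.p)) C.n]
  refine Finset.sum_congr rfl fun i _ => ?_
  have e : C.s * ((i : ℕ) + C.n * (i : ℕ)) = C.s * (C.n + 1) * (i : ℕ) := by ring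
  rw [Matrix.diag_apply, mat_def, dg_def, e]

/-- check of the traces -/
noncomputable def trS (s st n p : ℕ) (ts : List (ℕ × ℕ)) (L : List ℕ) : Bool :=
  List.rec true (fun q _ ih => bif Nat.beq (Nat.mod (trK s st n (get L q.1) 0) p) q.2 then ih else false) ts

theorem trS_sound {ts : List (ℕ × ℕ)} {LG : List (U C)} {L : List ℕ} (h : List.Forall₂ (CodesR C) LG L)
    (ht : trS C.s (C.s * (C.n + 1)) C.n C.p ts L = true) (hr : ∀ q ∈ ts, q.1 < L.length) :
    ∀ q ∈ ts, Matrix.trace ((LG.getD q.1 1 : U C) : M C) = (q.2 : ZMod C.p) := by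
  induction ts with
  | nil => intro q hq; simp at hq
  | cons a ts ih =>
    have ht' : (bif Nat.beq (Nat.mod (trK C.s (C.s * (C.n + 1)) C.n (get L a.1) 0) C.p) a.2 then
      trS C.s (C.s * (C.n + 1)) C.n C.p ts L else false) = true := ht
    rcases hb : Nat.beq (Nat.mod (trK C.s (C.s * (C.n + 1)) C.n (get L a.1) 0) C.p) a.2 with _ | _
    · rw [hb] at ht'; simp at ht'
    rw [hb, cond_true] at ht'
    intro q hq
    rcases List.mem_cons.mp hq with rfl | hq
    · rw [(codesR_get h (hr q List.mem_cons_self)).2, trace_mat, ← Nat.eq_of_beq_eq_true hb]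
      change _ = ((_ % _ : ℕ) : ZMod C.p)
      rw [ZMod.natCast_mod]
    · exact ih ht' (fun q hq => hr q (List.mem_cons_of_mem _ hq)) q hq

/-- A program with a check of the traces. -/
noncomputable def checkT (C : Cfg) (ws : List (ℕ × List ℕ)) (ts : List (ℕ × ℕ)) (L : List ℕ) : Bool :=
  bif okS ws L.length then
    withM C fun f => runS f ws L fun L => trS C.s (C.s * (C.n + 1)) C.n C.p ts L
  else false

theorem checkT_sound (hC : Good C) {LG : List (U C)} {L : List ℕ} (h : List.Forall₂ (CodesR C) LG L)
    {ws : List (ℕ × List ℕ)} {ts : List (ℕ × ℕ)} (hc : checkT C ws ts L = true)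
    (hr : ∀ q ∈ ts, q.1 < ws.length + L.length) :
    ∀ q ∈ ts, Matrix.trace (((runG ws LG).getD q.1 1 : U C) : M C) = (q.2 : ZMod C.p) := by
  unfold checkT at hc
  rcases h1 : okS ws L.length with _ | _
  · rw [h1] at hc; simp at hc
  rw [h1, cond_true, withM_eq] at hc
  obtain ⟨L', hL', hk⟩ := runS_sound hC h h1 hc
  refine trS_sound hL' hk fun q hq => ?_
  rw [← hL'.length_eq, runG_length, h.length_eq]
  exact hr q hq

/-- conjugate units have the same trace -/
theorem trace_conj {g h : U C} (e : IsConj g h) : Matrix.trace (g : M C) = Matrix.trace (h : M C) := by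
  obtain ⟨c, rfl⟩ := isConj_iff.1 e
  rw [Units.val_mul, Units.val_mul, Matrix.trace_mul_comm, ← mul_assoc, Units.inv_mul, one_mul]

end Cfsg.Agent.H536.T5.Prog
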